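import Cfsg.Agent.McLGraph.Pattern

set_option autoImplicit false

/-!
The automorphism group of the McLaughlin graph has order at most 1796256000.
-/

namespace Cfsg.Agent.McLGraph.AutBound

open Cfsg.Agent.McLGraph.Classify Cfsg.Agent.McLGraph.Model Cfsg.Agent.McLGraph.Unique
  Cfsg.Agent.McLGraph.Pattern MulAction

/-- orbit-stabiliser step along a chain. -/
theorem card_step {A X : Type*} [Group A] [Finite A] [MulAction A X] (H K : Subgroup A) (b : X) (c : ℕ)
    (hK : ∀ g ∈ H, g • b = b → g ∈ K) (S : Set X) (hS : S.Finite) (hSc : S.ncard ≤ c)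
    (hmem : ∀ g ∈ H, g • b ∈ S) : Nat.card H ≤ c * Nat.card K := by
  have h1 := (stabilizer H b).card_mul_index
  rw [index_stabilizer] at h1
  have h2 : (orbit H b).ncard ≤ c := by
    refine le_trans (Set.ncard_le_ncard ?_ hS) hSc
    rintro _ ⟨g, rfl⟩
    exact hmem g g.2
  have h3 : Nat.card (stabilizer H b) ≤ Nat.card K := by
    refine Nat.card_le_card_of_injective (fun g => (⟨g.1.1, hK g.1.1 g.1.2 g.2⟩ : K)) ?_
    intro g t h
    have h' : g.1.1 = t.1.1 := (Subtype.mk.injEq _ _ _ _).mp h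
    exact Subtype.ext (Subtype.ext h')
  rw [← h1, mul_comm]
  exact Nat.mul_le_mul h2 h3

/-- folding digits. -/
theorem foldr_mod (f : ℕ → ℕ) (hf : ∀ b, f b < 4) : ∀ (l : List ℕ) (k : ℕ),
    (l.foldr (fun b acc => f b + 4 * acc) 0) % 4 ^ k = (l.take k).foldr (fun b acc => f b + 4 * acc) 0
  | [], k => by simp
  | b :: l, 0 => by simp [Nat.mod_one]
  | b :: l, k + 1 => by
    rw [List.foldr_cons, List.take_succ_cons, List.foldr_cons, ← foldr_mod f hf l k, pow_succ, mul_comm (4 ^ k) 4]
    rw [Nat.mod_mul, Nat.add_mul_mod_self_left, Nat.mod_eq_of_lt (hf b),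
      Nat.add_mul_div_left _ _ (by norm_num : 0 < 4), Nat.div_eq_of_lt (hf b), zero_add]

theorem foldr_congr (f f' : ℕ → ℕ) (l : List ℕ) (h : ∀ b ∈ l, f b = f' b) :
    l.foldr (fun b acc => f b + 4 * acc) 0 = l.foldr (fun b acc => f' b + 4 * acc) 0 := by
  induction l with
  | nil => rfl
  | cons b l ih =>
    rw [List.foldr_cons, List.foldr_cons, h b List.mem_cons_self, ih fun b hb => h b (List.mem_cons_of_mem _ hb)]

theorem rel_lt (b x : Pt) : rel b x < 4 := by
  unfold rel
  split_ifs <;> norm_num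

/-- the vertices. -/
abbrev X := {p : Pt // p ≠ base}

/-- the automorphism group. -/
abbrev A := stdGraph ≃g stdGraph

theorem rel_smul (g : A) (b x : X) : rel (g b).1 (g x).1 = rel b.1 x.1 := by
  have h1 : (g b).1 = (g x).1 ↔ b.1 = x.1 := by
    rw [Subtype.coe_inj, Subtype.coe_inj]
    exact g.injective.eq_iff
  unfold rel
  by_cases h2 : b.1 = x.1
  · rw [if_pos h2, if_pos (h1.2 h2)]
  · rw [if_neg h2, if_neg (fun h => h2 (h1.1 h))]
    have hb : b ≠ x := fun h => h2 (congrArg Subtype.val h)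
    have hg : g b ≠ g x := fun h => hb (g.injective h)
    have h3 := g.map_adj_iff (v := b) (w := x)
    rw [stdGraph_adj, stdGraph_adj] at h3
    by_cases h4 : N0 b.1 x.1 * N0 base b.1 * N0 base x.1 = -1
    · rw [if_pos h4, if_pos (h3.2 ⟨hb, h4⟩).2]
    · rw [if_neg h4, if_neg (fun h => h4 (h3.1 ⟨hg, h⟩).2)]

theorem bs_ne : ∀ k : Fin 17, pt (bs.getD k 1) ≠ base := by decide +kernel

theorem bs_ne' (k : ℕ) : pt (bs.getD k 1) ≠ base := by
  by_cases hk : k < 17
  · exact bs_ne ⟨k, hk⟩
  · have : bs.getD k 1 = 1 := by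
      rw [List.getD_eq_default]
      show 17 ≤ k
      omega
    rw [this]
    decide +kernel

/-- the base points. -/
def bp (k : ℕ) : X := ⟨pt (bs.getD k 1), bs_ne' k⟩

theorem pat_inj {x y : X} (h : pat x.1 = pat y.1) : x = y := by
  obtain ⟨n, hn, hx⟩ := pt_surj' x.2
  obtain ⟨m, hm, hy⟩ := pt_surj' y.2
  rw [← hx, ← hy, pat_pt hn, pat_pt hm] at h
  have h1 : n < pats.length := by rw [pats_length]; exact hn
  have h2 : m < pats.length := by rw [pats_length]; exact hm
  rw [List.getD_eq_getElem _ _ h1, List.getD_eq_getElem _ _ h2] at h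
  have h3 := (List.Nodup.getElem_inj_iff pats_nodup).1 h
  apply Subtype.ext
  rw [← hx, ← hy, h3]

theorem pat_mem (x : X) : pat x.1 ∈ pats := by
  obtain ⟨n, hn, hx⟩ := pt_surj' x.2
  have h1 : n < pats.length := by rw [pats_length]; exact hn
  rw [← hx, pat_pt hn, List.getD_eq_getElem _ _ h1]
  exact List.getElem_mem h1

/-- the chain of pointwise stabilisers. -/
def H (k : ℕ) : Subgroup A where
  carrier := {g | ∀ j < k, g (bp j) = bp j}
  one_mem' := fun j _ => rfl
  mul_mem' := by
    intro g t hg ht j hj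
    show g (t (bp j)) = bp j
    rw [ht j hj, hg j hj]
  inv_mem' := by
    intro g hg j hj
    show g.symm (bp j) = bp j
    rw [RelIso.symm_apply_eq]
    exact (hg j hj).symm

theorem mem_H {k : ℕ} {g : A} : g ∈ H k ↔ ∀ j < k, g (bp j) = bp j := Iff.rfl

theorem bs_mem_take {k : ℕ} {b : ℕ} (hb : b ∈ bs.take k) : ∃ j < k, bs.getD j 1 = b := by
  obtain ⟨j, hj, h⟩ := List.mem_iff_getElem.1 hb
  rw [List.length_take] at hj
  refine ⟨j, by omega, ?_⟩
  rw [List.getElem_take] at h
  rw [List.getD_eq_getElem _ _ (by omega), h]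

theorem pat_smul_mod {k : ℕ} {g : A} (hg : g ∈ H k) (x : X) : pat (g x).1 % 4 ^ k = pat x.1 % 4 ^ k := by
  unfold pat
  rw [foldr_mod _ (fun b => rel_lt _ _), foldr_mod _ (fun b => rel_lt _ _)]
  apply foldr_congr
  intro b hb
  obtain ⟨j, hj, rfl⟩ := bs_mem_take hb
  have h1 := rel_smul g (bp j) x
  rw [hg j hj] at h1
  exact h1

theorem H_last : H 17 = ⊥ := by
  rw [eq_bot_iff]
  intro g hg
  rw [Subgroup.mem_bot]
  apply RelIso.ext
  intro x
  apply pat_inj
  unfold pat
  apply foldr_congr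
  intro b hb
  obtain ⟨j, hj, rfl⟩ := bs_mem_take (k := 17) (by rw [List.take_of_length_le (by decide)]; exact hb)
  have h1 := rel_smul g (bp j) x
  rw [hg j hj] at h1
  exact h1

theorem bp_pat : ∀ k : Fin 17, pat (bp k).1 = pats.getD ((bs.getD k 0) - 1) 0 := by
  intro k
  have h1 : ∀ k : Fin 17, bs.getD k 1 = ((bs.getD k 0) - 1) + 1 ∧ (bs.getD k 0) - 1 < 275 := by decide +kernel
  rw [← pat_pt (h1 k).2]
  unfold bp
  simp only
  rw [(h1 k).1]

/-- the bounds. -/
def cs : List ℕ := [275, 112, 81, 10, 9, 8, 1, 1, 1, 1, 1, 1, 1, 1, 1, 1, 1]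

theorem card_H_le (k : Fin 17) : Nat.card (H k) ≤ cs.getD k 0 * Nat.card (H (k + 1)) := by
  have hAf : Finite A := Finite.of_injective (fun g : A => g.toEquiv) RelIso.toEquiv_injective
  let S : Set X := {x | pat x.1 % 4 ^ (k : ℕ) = pat (bp k).1 % 4 ^ (k : ℕ)}
  refine card_step (H k) (H (k + 1)) (bp k) _ ?_ S (Set.toFinite _) ?_ ?_
  · intro g hg hb j hj
    rcases Nat.lt_succ_iff_lt_or_eq.1 hj with h1 | h1
    · exact hg j h1
    · rw [h1]
      exact hb
  · have h1 : S.ncard = ((fun x : X => pat x.1) '' S).ncard :=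
      (Set.ncard_image_of_injective _ (fun x y h => pat_inj h)).symm
    rw [h1]
    have h2 : (fun x : X => pat x.1) '' S ⊆
        (((pats.filter fun m => m % 4 ^ (k : ℕ) = pats.getD ((bs.getD k 0) - 1) 0 % 4 ^ (k : ℕ)).toFinset : Finset ℕ) :
          Set ℕ) := by
      rintro _ ⟨x, hx, rfl⟩
      rw [Finset.mem_coe, List.mem_toFinset, List.mem_filter]
      refine ⟨pat_mem x, ?_⟩
      rw [decide_eq_true_iff, ← bp_pat k]
      exact hx
    refine le_trans (Set.ncard_le_ncard h2 (Finset.finite_toSet _)) ?_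
    rw [Set.ncard_coe_finset]
    refine le_trans (List.toFinset_card_le _) ?_
    rw [counts k]
    exact le_refl _
  · intro g hg
    exact pat_smul_mod hg (bp k)

/-- The automorphism group of the standard McLaughlin graph has order at most 1796256000. -/
theorem card_aut_std_le : Nat.card A ≤ 1796256000 := by
  have h0 : Nat.card (H 0) = Nat.card A := by
    have : H 0 = ⊤ := by
      rw [eq_top_iff]
      intro g _ j hj
      exact absurd hj (Nat.not_lt_zero j)
    rw [this, Subgroup.card_top]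
  have h17 : Nat.card (H 17) = 1 := by
    rw [H_last, Subgroup.card_bot]
  have c0 := card_H_le 0
  have c1 := card_H_le 1
  have c2 := card_H_le 2
  have c3 := card_H_le 3
  have c4 := card_H_le 4
  have c5 := card_H_le 5
  have c6 := card_H_le 6
  have c7 := card_H_le 7
  have c8 := card_H_le 8
  have c9 := card_H_le 9
  have c10 := card_H_le 10
  have c11 := card_H_le 11
  have c12 := card_H_le 12
  have c13 := card_H_le 13
  have c14 := card_H_le 14
  have c15 := card_H_le 15
  have c16 := card_H_le 16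
  change Nat.card (H 0) ≤ 275 * Nat.card (H 1) at c0
  change Nat.card (H 1) ≤ 112 * Nat.card (H 2) at c1
  change Nat.card (H 2) ≤ 81 * Nat.card (H 3) at c2
  change Nat.card (H 3) ≤ 10 * Nat.card (H 4) at c3
  change Nat.card (H 4) ≤ 9 * Nat.card (H 5) at c4
  change Nat.card (H 5) ≤ 8 * Nat.card (H 6) at c5
  change Nat.card (H 6) ≤ 1 * Nat.card (H 7) at c6
  change Nat.card (H 7) ≤ 1 * Nat.card (H 8) at c7
  change Nat.card (H 8) ≤ 1 * Nat.card (H 9) at c8
  change Nat.card (H 9) ≤ 1 * Nat.card (H 10) at c9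
  change Nat.card (H 10) ≤ 1 * Nat.card (H 11) at c10
  change Nat.card (H 11) ≤ 1 * Nat.card (H 12) at c11
  change Nat.card (H 12) ≤ 1 * Nat.card (H 13) at c12
  change Nat.card (H 13) ≤ 1 * Nat.card (H 14) at c13
  change Nat.card (H 14) ≤ 1 * Nat.card (H 15) at c14
  change Nat.card (H 15) ≤ 1 * Nat.card (H 16) at c15
  change Nat.card (H 16) ≤ 1 * Nat.card (H 17) at c16
  rw [← h0]
  omega

/-- The automorphism group of an srg(275,112,30,56) has order at most 1796256000. -/
theorem card_aut_le {V : Type*} [Fintype V] [DecidableEq V] {Γ : SimpleGraph V} [DecidableRel Γ.Adj]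
    (h : Γ.IsSRGWith 275 112 30 56) : Nat.card (Γ ≃g Γ) ≤ 1796256000 := by
  obtain ⟨e⟩ := nonempty_iso_std Γ h
  refine le_trans (le_of_eq (Nat.card_congr ?_)) card_aut_std_le
  exact
    { toFun := fun φ => (e.symm.trans φ).trans e
      invFun := fun φ => (e.trans φ).trans e.symm
      left_inv := fun φ => by
        ext x
        simp
      right_inv := fun φ => by
        ext x
        simp }

end Cfsg.Agent.McLGraph.AutBound
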