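import Mathlib

set_option autoImplicit false

/-!
The finite combinatorial core of the classification of the ternary [11,5,6] code.
-/

namespace Cfsg.Agent.McLGraph.Finite

/-- the cyclic matrix. -/
def M0 (i j : Fin 4) : ZMod 3 := if j = i then 0 else if j = i + 1 then 1 else -1

/-- the alternating vector. -/
def v0 (i : Fin 4) : ZMod 3 := if i = 0 ∨ i = 2 then 1 else -1

/-- a row of the matrix is determined by the position of its entry `1`. -/
theorem row_cases : ∀ (i : Fin 4) (a b c d : ZMod 3), (∀ j : Fin 4, j ≠ i → ![a, b, c, d] j ≠ 0) →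
    ![a, b, c, d] i = 0 → a + b + c + d = -1 →
    ∃ p : Fin 4, p ≠ i ∧ ∀ j, ![a, b, c, d] j = if j = i then 0 else if j = p then 1 else -1 := by
  decide

/-- the matrix attached to a function. -/
def Mp (p : Fin 4 → Fin 4) (i j : Fin 4) : ZMod 3 := if j = i then 0 else if j = p i then 1 else -1

/-- the cyclic permutations of `Fin 4` as a list of tuples. -/
theorem perm_cases : ∀ p0 p1 p2 p3 : Fin 4, p0 ≠ 0 → p1 ≠ 1 → p2 ≠ 2 → p3 ≠ 3 →
    (∀ i j : Fin 4, i ≠ j →
      1 + (Mp ![p0, p1, p2, p3] i 0 * Mp ![p0, p1, p2, p3] j 0 + Mp ![p0, p1, p2, p3] i 1 * Mp ![p0, p1, p2, p3] j 1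
        + Mp ![p0, p1, p2, p3] i 2 * Mp ![p0, p1, p2, p3] j 2 + Mp ![p0, p1, p2, p3] i 3 * Mp ![p0, p1, p2, p3] j 3)
        ≠ 0) →
    ∃ x : Fin 4, ∃ y : Fin 4, ∃ z : Fin 4, ∃ t : Fin 4, x ≠ y ∧ x ≠ z ∧ x ≠ t ∧ y ≠ z ∧ y ≠ t ∧ z ≠ t ∧
      ![p0, p1, p2, p3] x = y ∧ ![p0, p1, p2, p3] y = z ∧ ![p0, p1, p2, p3] z = t ∧ ![p0, p1, p2, p3] t = x := by
  decide +kernel

theorem sign_cases : ∀ a b c d : ZMod 3, a ≠ 0 → b ≠ 0 → c ≠ 0 → d ≠ 0 →
    (∀ i j : Fin 4, i ≠ j →
      ![a, b, c, d] i * ![a, b, c, d] j + (M0 i 0 * M0 j 0 + M0 i 1 * M0 j 1 + M0 i 2 * M0 j 2 + M0 i 3 * M0 j 3)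
        + 1 = 0) →
    ∀ i, ![a, b, c, d] i = a * v0 i := by
  decide +kernel

end Cfsg.Agent.McLGraph.Finite

namespace Cfsg.Agent.McLGraph.Finite

theorem vec_eta {α : Type*} (f : Fin 4 → α) : ![f 0, f 1, f 2, f 3] = f := by
  funext i
  fin_cases i <;> rfl

/-- Normal form of a 4 by 4 matrix with zero diagonal and the orthogonality relations. -/
theorem normal_form (M : Fin 4 → Fin 4 → ZMod 3) (v : Fin 4 → ZMod 3) (hM0 : ∀ i, M i i = 0)
    (hMn : ∀ i j, j ≠ i → M i j ≠ 0) (hs : ∀ i, ∑ j, M i j = -1) (hv : ∀ i, v i ≠ 0)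
    (ho : ∀ i j, i ≠ j → v i * v j + ∑ l, M i l * M j l + 1 = 0) :
    ∃ (π : Equiv.Perm (Fin 4)) (τ : ZMod 3), τ ≠ 0 ∧ (∀ i j, M (π i) (π j) = M0 i j) ∧
      ∀ i, v (π i) = τ * v0 i := by
  have hrow : ∀ i, ∃ p : Fin 4, p ≠ i ∧ ∀ j, M i j = if j = i then 0 else if j = p then 1 else -1 := by
    intro i
    have h1 := row_cases i (M i 0) (M i 1) (M i 2) (M i 3)
    rw [vec_eta] at h1
    apply h1
    · intro j hj
      exact hMn i j hj
    · exact hM0 i
    · have := hs i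
      rw [Fin.sum_univ_four] at this
      exact this
  choose p hp1 hp2 using hrow
  have hMp : ∀ i j, M i j = Mp p i j := fun i j => hp2 i j
  have hpe := vec_eta p
  obtain ⟨x, y, z, t, hxy, hxz, hxt, hyz, hyt, hzt, e1, e2, e3, e4⟩ :=
    perm_cases (p 0) (p 1) (p 2) (p 3) (hp1 0) (hp1 1) (hp1 2) (hp1 3) (by
      intro i j hij
      rw [hpe]
      have h1 := ho i j hij
      rw [Fin.sum_univ_four] at h1
      simp only [hMp] at h1
      intro h2
      have h3 : v i * v j = 0 := by linear_combination h1 - h2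
      rcases mul_eq_zero.1 h3 with h4 | h4
      · exact hv i h4
      · exact hv j h4)
  rw [hpe] at e1 e2 e3 e4
  have hinj : Function.Injective ![x, y, z, t] := by
    have h0 : ∀ i j : Fin 4, i < j → ![x, y, z, t] i ≠ ![x, y, z, t] j := by
      intro i j hij
      fin_cases i <;> fin_cases j <;>
        first
        | exact absurd hij (by decide)
        | assumption
    intro i j hij
    rcases lt_trichotomy i j with h1 | h1 | h1
    · exact absurd hij (h0 i j h1)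
    · exact h1
    · exact absurd hij.symm (h0 j i h1)
  let π : Equiv.Perm (Fin 4) := Equiv.ofBijective ![x, y, z, t] (Finite.injective_iff_bijective.1 hinj)
  have hπ : ∀ i, π i = ![x, y, z, t] i := fun i => rfl
  have hpπ : ∀ i, p (π i) = π (i + 1) := by
    intro i
    rw [hπ, hπ]
    fin_cases i
    · exact e1
    · exact e2
    · exact e3
    · exact e4
  have hM : ∀ i j, M (π i) (π j) = M0 i j := by
    intro i j
    rw [hMp]
    unfold Mp M0
    simp only [hpπ, π.injective.eq_iff]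
  refine ⟨π, v (π 0), hv _, hM, ?_⟩
  have h1 := sign_cases (v (π 0)) (v (π 1)) (v (π 2)) (v (π 3)) (hv _) (hv _) (hv _) (hv _)
  have h2 : ![v (π 0), v (π 1), v (π 2), v (π 3)] = fun i => v (π i) := vec_eta (fun i => v (π i))
  rw [h2] at h1
  apply h1
  intro i j hij
  have h3 := ho (π i) (π j) (fun h => hij (π.injective h))
  rw [← Equiv.sum_comp π, Fin.sum_univ_four] at h3
  simp only [hM] at h3
  exact h3

end Cfsg.Agent.McLGraph.Finite
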