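import Cfsg.Agent.McLGraph.InfoSet
import Cfsg.Agent.McLGraph.Finite

set_option autoImplicit false
set_option linter.unusedSectionVars false

/-!
Uniqueness of the ternary linear [11,5] code with weights 6 and 9, with control on one coordinate.
-/

namespace Cfsg.Agent.McLGraph.Classify

open Cfsg.Agent.McLGraph.Finite

/-- index of the rows of the generator matrix. -/
abbrev R := Option (Fin 4)

/-- the eleven coordinates. -/
abbrev J := (R ⊕ R) ⊕ Unit

/-- the redundancy part of the generator matrix, without the last column. -/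
def A0 : R → R → ZMod 3
  | none, none => 0
  | none, some _ => 1
  | some i, none => v0 i
  | some i, some j => M0 i j

/-- the generator matrix. -/
def Gm (i : R) : J → ZMod 3
  | Sum.inl (Sum.inl k) => if k = i then 1 else 0
  | Sum.inl (Sum.inr l) => A0 i l
  | Sum.inr _ => 1

/-- encoding. -/
def enc (l : R → ZMod 3) (j : J) : ZMod 3 := ∑ i, l i * Gm i j

theorem enc_inl (l : R → ZMod 3) (k : R) : enc l (Sum.inl (Sum.inl k)) = l k := by
  simp [enc, Gm]

/-- the weight. -/
def wt (v : Fin 11 → ZMod 3) : ℕ := (Finset.univ.filter fun q => v q ≠ 0).card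

theorem mul_self_eq_one {x : ZMod 3} (h : x ≠ 0) : x * x = 1 := by
  revert x
  decide

theorem sum_sq_eq_wt (v : Fin 11 → ZMod 3) : ∑ q, v q * v q = (wt v : ZMod 3) := by
  have h1 : ∀ q, v q * v q = if v q ≠ 0 then 1 else 0 := by
    intro q
    by_cases h : v q = 0
    · simp [h]
    · rw [if_pos h, mul_self_eq_one h]
  simp only [h1, Finset.sum_boole, wt]

section

variable {C : Submodule (ZMod 3) (Fin 11 → ZMod 3)}

theorem self_orth (hw : ∀ v ∈ C, v ≠ 0 → wt v = 6 ∨ wt v = 9) {u v : Fin 11 → ZMod 3} (hu : u ∈ C) (hv : v ∈ C) :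
    ∑ q, u q * v q = 0 := by
  have h0 : ∀ w ∈ C, ∑ q, w q * w q = 0 := by
    intro w hwC
    rw [sum_sq_eq_wt]
    by_cases hz : w = 0
    · subst hz
      simp [wt]
    · rcases hw w hwC hz with h1 | h1 <;> rw [h1] <;> decide
  have h1 := h0 _ (C.add_mem hu hv)
  have h2 : ∑ q, (u + v) q * (u + v) q = ∑ q, u q * u q + ∑ q, v q * v q + 2 * ∑ q, u q * v q := by
    rw [Finset.mul_sum, ← Finset.sum_add_distrib, ← Finset.sum_add_distrib]
    refine Finset.sum_congr rfl fun q _ => ?_
    simp only [Pi.add_apply]
    ring
  rw [h2, h0 u hu, h0 v hv] at h1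
  have h3 : (2 : ZMod 3) ≠ 0 := by decide
  have h4 : 2 * ∑ q, u q * v q = 0 := by simpa using h1
  rcases mul_eq_zero.1 h4 with h5 | h5
  · exact absurd h5 h3
  · exact h5

/-- splitting of the weight. -/
theorem wt_split {b : R → Fin 11} (hb : Function.Injective b) (v : Fin 11 → ZMod 3) :
    wt v = (Finset.univ.filter fun i : R => v (b i) ≠ 0).card +
      ((Finset.univ \ Finset.univ.image b).filter fun p => v p ≠ 0).card := by
  classical
  unfold wt
  have h1 : (Finset.univ : Finset (Fin 11)) = Finset.univ.image b ∪ (Finset.univ \ Finset.univ.image b) := by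
    rw [Finset.union_sdiff_of_subset (Finset.subset_univ _)]
  have h2 : (Finset.univ.filter fun q => v q ≠ 0) =
      ((Finset.univ.image b).filter fun q => v q ≠ 0) ∪
        ((Finset.univ \ Finset.univ.image b).filter fun p => v p ≠ 0) := by
    rw [← Finset.filter_union, ← h1]
  rw [h2, Finset.card_union_of_disjoint, Finset.filter_image, Finset.card_image_of_injective _ hb]
  exact Finset.disjoint_filter_filter Finset.disjoint_sdiff

end

theorem classify (C : Submodule (ZMod 3) (Fin 11 → ZMod 3)) (hC : Nat.card C = 243)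
    (hw : ∀ v ∈ C, v ≠ 0 → wt v = 6 ∨ wt v = 9) (q0 : Fin 11) (h0 : ∃ v ∈ C, v q0 ≠ 0) :
    ∃ (θ : J ≃ Fin 11) (ε : J → ZMod 3), (∀ j, ε j ≠ 0) ∧ θ (Sum.inl (Sum.inl none)) = q0 ∧
      ∀ v ∈ C, ∀ j, ε j * v (θ j) = enc (fun i => ε (Sum.inl (Sum.inl i)) * v (θ (Sum.inl (Sum.inl i)))) j := by
  classical
  obtain ⟨b, hb, hb0, hinj, hsurj⟩ := InfoSet.exists_info C hC q0 h0
  have hg := fun i : R => hsurj (fun j => if j = i then 1 else 0)
  choose g hgC hgb using hg
  set P : Finset (Fin 11) := Finset.univ \ Finset.univ.image b with hP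
  have hPcard : P.card = 6 := by
    rw [hP, Finset.card_sdiff_of_subset (Finset.subset_univ _), Finset.card_image_of_injective _ hb]
    simp
  have hbP : ∀ i, b i ∉ P := by
    intro i h1
    rw [hP, Finset.mem_sdiff] at h1
    exact h1.2 (Finset.mem_image_of_mem b (Finset.mem_univ i))
  have hsplit : ∀ v : Fin 11 → ZMod 3, (P.filter fun p => v p = 0).card + (P.filter fun p => v p ≠ 0).card = 6 := by
    intro v
    rw [← hPcard]
    exact Finset.card_filter_add_card_filter_not _
  have hg0 : ∀ i, g i ≠ 0 := by
    intro i h1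
    have h2 := hgb i i
    rw [h1, if_pos rfl, Pi.zero_apply] at h2
    exact absurd h2 (by decide)
  -- each generator has exactly one zero on `P`
  have hz1 : ∀ i, (P.filter fun p => g i p = 0).card = 1 := by
    intro i
    have h1 : wt (g i) = (Finset.univ.filter fun j : R => g i (b j) ≠ 0).card +
      (P.filter fun p => g i p ≠ 0).card := wt_split hb (g i)
    have h2 : (Finset.univ.filter fun j : R => g i (b j) ≠ 0) = {i} := by
      ext j
      simp only [Finset.mem_filter, Finset.mem_univ, true_and, Finset.mem_singleton, hgb]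
      by_cases hj : j = i <;> simp [hj]
    rw [h2, Finset.card_singleton] at h1
    have h3 := hsplit (g i)
    rcases hw (g i) (hgC i) (hg0 i) with h4 | h4 <;> omega
  -- sums and differences have exactly two zeros on `P`
  have hz2 : ∀ i j, i ≠ j → ∀ σ : ZMod 3, σ ≠ 0 → (P.filter fun p => g i p + σ * g j p = 0).card = 2 := by
    intro i j hij σ hσ
    have hmem : g i + σ • g j ∈ C := C.add_mem (hgC i) (C.smul_mem σ (hgC j))
    have h1 : wt (g i + σ • g j) = (Finset.univ.filter fun k : R => (g i + σ • g j) (b k) ≠ 0).card +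
      (P.filter fun p => (g i + σ • g j) p ≠ 0).card := wt_split hb (g i + σ • g j)
    have h2 : (Finset.univ.filter fun k : R => (g i + σ • g j) (b k) ≠ 0) = {i, j} := by
      ext k
      simp only [Finset.mem_filter, Finset.mem_univ, true_and, Finset.mem_singleton, Finset.mem_insert,
        Pi.add_apply, Pi.smul_apply, smul_eq_mul, hgb]
      by_cases hk : k = i
      · subst hk
        simp [hij]
      · by_cases hk' : k = j
        · subst hk'
          simp [hk, hσ]
        · simp [hk, hk']
    have hne : g i + σ • g j ≠ 0 := by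
      intro h3
      have h4 := congrFun h3 (b i)
      simp only [Pi.add_apply, Pi.smul_apply, smul_eq_mul, hgb, Pi.zero_apply, if_pos, if_neg hij] at h4
      simp at h4
    rw [h2, Finset.card_pair hij] at h1
    have h3 := hsplit (g i + σ • g j)
    have h5 : (P.filter fun p => g i p + σ * g j p = 0) = (P.filter fun p => (g i + σ • g j) p = 0) := rfl
    rw [h5]
    rcases hw _ hmem hne with h4 | h4 <;> omega
  -- the zeros
  have hζ : ∀ i, ∃ p, (P.filter fun p => g i p = 0) = {p} := fun i => Finset.card_eq_one.1 (hz1 i)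
  choose ζ hζ using hζ
  have hζP : ∀ i, ζ i ∈ P ∧ g i (ζ i) = 0 := by
    intro i
    have : ζ i ∈ (P.filter fun p => g i p = 0) := by rw [hζ]; exact Finset.mem_singleton_self _
    exact Finset.mem_filter.1 this
  have hζu : ∀ i p, p ∈ P → g i p = 0 → p = ζ i := by
    intro i p hp hgp
    have : p ∈ (P.filter fun p => g i p = 0) := Finset.mem_filter.2 ⟨hp, hgp⟩
    rw [hζ] at this
    exact Finset.mem_singleton.1 this
  have hζinj : Function.Injective ζ := by
    intro i j hij
    by_contra hne
    have e1 := hz2 i j hne 1 (by decide)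
    have e2 := hz2 i j hne (-1) (by decide)
    have h1 : P ⊆ (P.filter fun p => g i p + 1 * g j p = 0) ∪ (P.filter fun p => g i p + (-1) * g j p = 0) := by
      intro p hp
      by_cases hpi : p = ζ i
      · subst hpi
        refine Finset.mem_union_left _ (Finset.mem_filter.2 ⟨hp, ?_⟩)
        rw [(hζP i).2, hij, (hζP j).2]
        decide
      · have h2 : g i p ≠ 0 := fun h => hpi (hζu i p hp h)
        have h3 : g j p ≠ 0 := fun h => hpi (by rw [hij]; exact hζu j p hp h)
        have h4 : g i p + 1 * g j p = 0 ∨ g i p + (-1) * g j p = 0 := by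
          revert h2 h3
          generalize g i p = x
          generalize g j p = z
          revert x z
          decide
        rw [Finset.mem_union, Finset.mem_filter, Finset.mem_filter]
        rcases h4 with h5 | h5
        · exact Or.inl ⟨hp, h5⟩
        · exact Or.inr ⟨hp, h5⟩
    have h2 := (Finset.card_le_card h1).trans (Finset.card_union_le _ _)
    omega
  -- the last coordinate
  obtain ⟨pinf, hpinf, hpinf'⟩ : ∃ p ∈ P, p ∉ Finset.univ.image ζ := by
    by_contra hcon
    push Not at hcon
    have h1 : P ⊆ Finset.univ.image ζ := hcon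
    have h2 := Finset.card_le_card h1
    rw [Finset.card_image_of_injective _ hζinj] at h2
    simp at h2
    omega
  have hpne : ∀ i, pinf ≠ ζ i := by
    intro i h1
    exact hpinf' (Finset.mem_image.2 ⟨i, Finset.mem_univ _, h1.symm⟩)
  have hθinj : Function.Injective (Sum.elim (Sum.elim b ζ) (fun _ : Unit => pinf)) := by
    apply Function.Injective.sumElim
    · apply Function.Injective.sumElim hb hζinj
      intro i j h1
      exact hbP i (h1 ▸ (hζP j).1)
    · intro x y _
      rfl
    · rintro (i | i) _ h1
      · have h2 : b i = pinf := h1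
        exact hbP i (h2 ▸ hpinf)
      · exact hpne i h1.symm
  have hcardJ : Fintype.card J = Fintype.card (Fin 11) := by decide
  let θ0 : J ≃ Fin 11 := Equiv.ofBijective _
    ((Fintype.bijective_iff_injective_and_card _).2 ⟨hθinj, hcardJ⟩)
  have hθb : ∀ i, θ0 (Sum.inl (Sum.inl i)) = b i := fun i => rfl
  have hθζ : ∀ i, θ0 (Sum.inl (Sum.inr i)) = ζ i := fun i => rfl
  have hθp : ∀ i, θ0 (Sum.inr i) = pinf := fun i => rfl
  -- entries
  have hu : ∀ i, g i pinf ≠ 0 := fun i h1 => hpne i (hζu i pinf hpinf h1)
  have hA0 : ∀ i, g i (ζ i) = 0 := fun i => (hζP i).2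
  have hAn : ∀ i l, l ≠ i → g i (ζ l) ≠ 0 := by
    intro i l hl h1
    exact hl (hζinj (hζu i (ζ l) (hζP l).1 h1))
  have horth : ∀ i j, i ≠ j → ∑ l, g i (ζ l) * g j (ζ l) + g i pinf * g j pinf = 0 := by
    intro i j hij
    have h1 := self_orth hw (hgC i) (hgC j)
    rw [← Equiv.sum_comp θ0, Fintype.sum_sum_type, Fintype.sum_sum_type] at h1
    simp only [hθb, hθζ, hθp, hgb] at h1
    have h2 : ∑ x : R, (if x = i then (1 : ZMod 3) else 0) * (if x = j then (1 : ZMod 3) else 0) = 0 := by
      apply Finset.sum_eq_zero
      intro x _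
      by_cases hx : x = i
      · subst hx
        rw [if_neg hij, mul_zero]
      · rw [if_neg hx, zero_mul]
    rw [h2, zero_add] at h1
    simpa using h1
  set σ : Fin 4 → ZMod 3 := fun j => g none pinf * g none (ζ (some j)) with hσ
  have hσ0 : ∀ j, σ j ≠ 0 := fun j => mul_ne_zero (hu none) (hAn none (some j) (by simp))
  set M : Fin 4 → Fin 4 → ZMod 3 := fun i j => σ j * (g (some i) pinf * g (some i) (ζ (some j))) with hM
  set v : Fin 4 → ZMod 3 := fun i => g (some i) pinf * g (some i) (ζ none) with hv
  obtain ⟨π, τ, hτ, hπM, hπv⟩ := normal_form M v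
    (by
      intro i
      simp only [hM]
      rw [hA0, mul_zero, mul_zero])
    (by
      intro i j hij
      exact mul_ne_zero (hσ0 j) (mul_ne_zero (hu _) (hAn _ _ (by simpa using hij))))
    (by
      intro i
      have h1 := horth none (some i) (by simp)
      rw [Fintype.sum_option, hA0, zero_mul, zero_add] at h1
      have h2 := mul_self_eq_one (hu none)
      have h3 := mul_self_eq_one (hu (some i))
      have h4 : ∑ j, M i j = (g none pinf * g (some i) pinf) * ∑ l, g none (ζ (some l)) * g (some i) (ζ (some l)) := by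
        rw [Finset.mul_sum]
        refine Finset.sum_congr rfl fun l _ => ?_
        simp only [hM, hσ]
        ring
      rw [h4]
      have h5 : ∑ l, g none (ζ (some l)) * g (some i) (ζ (some l)) = - (g none pinf * g (some i) pinf) := by
        linear_combination h1
      rw [h5]
      linear_combination (-1 : ZMod 3) * (g (some i) pinf * g (some i) pinf) * h2 - h3)
    (by
      intro i
      exact mul_ne_zero (hu _) (hAn _ _ (by simp)))
    (by
      intro i j hij
      have h1 := horth (some i) (some j) (by simpa using hij)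
      rw [Fintype.sum_option] at h1
      have h2 := mul_self_eq_one (hu (some i))
      have h3 := mul_self_eq_one (hu (some j))
      have h4 : ∑ l, M i l * M j l = (g (some i) pinf * g (some j) pinf) *
          ∑ l, g (some i) (ζ (some l)) * g (some j) (ζ (some l)) := by
        rw [Finset.mul_sum]
        refine Finset.sum_congr rfl fun l _ => ?_
        have h5 := mul_self_eq_one (hσ0 l)
        simp only [hM]
        linear_combination (g (some i) pinf * g (some i) (ζ (some l)) *
          (g (some j) pinf * g (some j) (ζ (some l)))) * h5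
      rw [h4]
      simp only [hv]
      linear_combination (g (some i) pinf * g (some j) pinf) * h1 -
        (g (some j) pinf * g (some j) pinf) * h2 - h3)
  -- the coordinates
  let π' : R ≃ R := Equiv.optionCongr π
  have hπn : π' none = none := rfl
  have hπs : ∀ i, π' (some i) = some (π i) := fun i => rfl
  let ε : J → ZMod 3
    | Sum.inl (Sum.inl i) => g (π' i) pinf
    | Sum.inl (Sum.inr none) => τ
    | Sum.inl (Sum.inr (some l)) => σ (π l)
    | Sum.inr _ => 1
  let θ : J ≃ Fin 11 := (Equiv.sumCongr (Equiv.sumCongr π' π') (Equiv.refl Unit)).trans θ0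
  have hθ1 : ∀ i, θ (Sum.inl (Sum.inl i)) = b (π' i) := fun i => rfl
  have hθ2 : ∀ i, θ (Sum.inl (Sum.inr i)) = ζ (π' i) := fun i => rfl
  have hθ3 : ∀ i, θ (Sum.inr i) = pinf := fun i => rfl
  have hε : ∀ j, ε j ≠ 0 := by
    rintro ((i | (_ | l)) | i)
    · exact hu _
    · exact hτ
    · exact hσ0 _
    · exact one_ne_zero
  have key : ∀ i j, ε j * g (π' i) (θ j) = g (π' i) pinf * Gm i j := by
    rintro i ((k | l) | k)
    · rw [hθ1, hgb]
      show g (π' k) pinf * _ = g (π' i) pinf * (if k = i then 1 else 0)
      by_cases hk : k = i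
      · subst hk
        rw [if_pos rfl, if_pos rfl]
      · rw [if_neg hk, if_neg (fun h => hk (π'.injective h)), mul_zero, mul_zero]
    · rw [hθ2]
      show _ = g (π' i) pinf * A0 i l
      rcases i with _ | i <;> rcases l with _ | l
      · show τ * g none (ζ none) = g none pinf * 0
        rw [hA0, mul_zero, mul_zero]
      · show (g none pinf * g none (ζ (some (π l)))) * g none (ζ (some (π l))) = g none pinf * 1
        have h1 := mul_self_eq_one (hAn none (some (π l)) (by simp))
        linear_combination (g none pinf) * h1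
      · show τ * g (some (π i)) (ζ none) = g (some (π i)) pinf * v0 i
        have h1 : g (some (π i)) pinf * g (some (π i)) (ζ none) = τ * v0 i := hπv i
        have h2 := mul_self_eq_one (hu (some (π i)))
        have h3 := mul_self_eq_one hτ
        linear_combination (τ * g (some (π i)) pinf) * h1 - (τ * g (some (π i)) (ζ none)) * h2 +
          (g (some (π i)) pinf * v0 i) * h3
      · show σ (π l) * g (some (π i)) (ζ (some (π l))) = g (some (π i)) pinf * M0 i l
        have h1 : σ (π l) * (g (some (π i)) pinf * g (some (π i)) (ζ (some (π l)))) = M0 i l := hπM i l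
        have h2 := mul_self_eq_one (hu (some (π i)))
        linear_combination (g (some (π i)) pinf) * h1 - (σ (π l) * g (some (π i)) (ζ (some (π l)))) * h2
    · rw [hθ3]
      show 1 * g (π' i) pinf = g (π' i) pinf * 1
      ring
  refine ⟨θ, ε, hε, ?_, ?_⟩
  · rw [hθ1, hπn, hb0]
  · intro x hx j
    have hx' : x = ∑ i, x (b i) • g i := by
      have h1 : x - ∑ i, x (b i) • g i = 0 := by
        apply hinj
        · exact C.sub_mem hx (C.sum_mem fun i _ => C.smul_mem _ (hgC i))
        · intro k
          rw [Pi.sub_apply, Finset.sum_apply]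
          simp only [Pi.smul_apply, smul_eq_mul, hgb]
          simp
      exact sub_eq_zero.1 h1
    have h2 : x (θ j) = ∑ i, x (b (π' i)) * g (π' i) (θ j) := by
      conv_lhs => rw [hx']
      rw [Finset.sum_apply, ← Equiv.sum_comp π']
      rfl
    rw [h2, Finset.mul_sum]
    unfold enc
    refine Finset.sum_congr rfl fun i _ => ?_
    have h3 := key i j
    show ε j * (x (b (π' i)) * g (π' i) (θ j)) = (g (π' i) pinf * x (b (π' i))) * Gm i j
    linear_combination (x (b (π' i))) * h3

end Cfsg.Agent.McLGraph.Classify
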