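import Cfsg.Agent.McLGraph.Frame

set_option autoImplicit false
set_option linter.unusedSectionVars false

/-!
Enumeration of the 33 vectors as 11 triples.
-/

namespace Cfsg.Agent.McLGraph.Enum

open Cfsg.Agent.McLGraph.Gram Cfsg.Agent.McLGraph.Frame

/-- A set of 33 elements with an equivalence relation all of whose classes have three elements. -/
theorem exists_enum {S : Type*} [Fintype S] (r : Setoid S) (hc : Fintype.card S = 33)
    (h3 : ∀ x : S, Nat.card {y : S // r y x} = 3) :
    ∃ e : Fin 11 × ZMod 3 ≃ S, ∀ p p', r (e p) (e p') ↔ p.1 = p'.1 := by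
  classical
  have hf : ∀ q : Quotient r, Nonempty ({x : S // (Quotient.mk r x) = q} ≃ ZMod 3) := by
    intro q
    obtain ⟨x, rfl⟩ := Quotient.exists_rep q
    have e1 : {y : S // Quotient.mk r y = Quotient.mk r x} ≃ {y : S // r y x} :=
      Equiv.subtypeEquivRight fun y => Quotient.eq
    have e2 : Nat.card {y : S // Quotient.mk r y = Quotient.mk r x} = 3 := by
      rw [Nat.card_congr e1, h3 x]
    refine ⟨Fintype.equivOfCardEq ?_⟩
    rw [← Nat.card_eq_fintype_card, e2]
    rfl
  have f := fun q => (hf q).some
  let e0 : S ≃ (Quotient r) × ZMod 3 :=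
    (Equiv.sigmaFiberEquiv (fun x : S => Quotient.mk r x)).symm.trans
      ((Equiv.sigmaCongrRight fun q => f q).trans (Equiv.sigmaEquivProd _ _))
  have he0 : ∀ x, (e0 x).1 = Quotient.mk r x := fun x => rfl
  have hq : Fintype.card (Quotient r) = 11 := by
    have h1 := Fintype.card_congr e0
    rw [Fintype.card_prod, hc, ZMod.card] at h1
    omega
  let g : Quotient r ≃ Fin 11 := Fintype.equivFinOfCardEq hq
  refine ⟨(e0.trans (Equiv.prodCongr g (Equiv.refl _))).symm, ?_⟩
  intro p p'
  set x := (e0.trans (Equiv.prodCongr g (Equiv.refl _))).symm p with hx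
  set x' := (e0.trans (Equiv.prodCongr g (Equiv.refl _))).symm p' with hx'
  have hp : (e0.trans (Equiv.prodCongr g (Equiv.refl _))) x = p := by rw [hx, Equiv.apply_symm_apply]
  have hp' : (e0.trans (Equiv.prodCongr g (Equiv.refl _))) x' = p' := by rw [hx', Equiv.apply_symm_apply]
  have e1 : p.1 = g (Quotient.mk r x) := by rw [← hp, ← he0]; rfl
  have e2 : p'.1 = g (Quotient.mk r x') := by rw [← hp', ← he0]; rfl
  rw [e1, e2, g.injective.eq_iff, Quotient.eq]

variable {I : Type*} [Fintype I] [DecidableEq I]

/-- The enumeration of the 33 vectors. -/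
structure IsEnum (N : I → I → ℤ) (a b c : I) (y : Fin 11 × ZMod 3 → I) : Prop extends IsFramed N a b c where
  inj : Function.Injective y
  mem_range : ∀ i, (∃ p, y p = i) ↔ i ∈ F N a b c
  gram : ∀ p p', N (y p) (y p') = if p = p' then 5 else if p.1 = p'.1 then -1 else 1
  sum_row : ∀ k m, N (y (k, 0)) m + N (y (k, 1)) m + N (y (k, 2)) m = s N a b c m

theorem exists_isEnum {N : I → I → ℤ} {a b c : I} (h : IsFramed N a b c) : ∃ y, IsEnum N a b c y := by
  classical
  -- the equivalence relation
  let r : Setoid {i // i ∈ F N a b c} :=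
    { r := fun i j => i = j ∨ N i j = -1
      iseqv :=
        { refl := fun i => Or.inl rfl
          symm := by
            rintro i j (h1 | h1)
            · exact Or.inl h1.symm
            · exact Or.inr (by rw [h.symm]; exact h1)
          trans := by
            rintro i j k (h1 | h1) (h2 | h2)
            · exact Or.inl (h1.trans h2)
            · subst h1; exact Or.inr h2
            · subst h2; exact Or.inr h1
            · by_cases hik : i = k
              · exact Or.inl hik
              · right
                have h1' : N (j : I) (i : I) = -1 := by rw [h.symm]; exact h1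
                exact (h.triple j.2 i.2 k.2 h1' h2 (fun e => hik (Subtype.ext e))).1 } }
  have hr : ∀ i j : {i // i ∈ F N a b c}, r i j ↔ (i = j ∨ N i j = -1) := fun i j => Iff.rfl
  have hcard : Fintype.card {i // i ∈ F N a b c} = 33 := by
    rw [Fintype.card_coe, h.card_F]
  have h3 : ∀ x : {i // i ∈ F N a b c}, Nat.card {y : {i // i ∈ F N a b c} // r y x} = 3 := by
    intro x
    have e1 : {y : {i // i ∈ F N a b c} // r y x} ≃
        {j : I // j ∈ insert (x : I) ((F N a b c).filter fun j => N x j = -1)} :=
      { toFun := fun y => ⟨y.1.1, by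
          rcases y.2 with h1 | h1
          · rw [h1]; exact Finset.mem_insert_self _ _
          · refine Finset.mem_insert_of_mem (Finset.mem_filter.2 ⟨y.1.2, ?_⟩)
            rw [h.symm]; exact h1⟩
        invFun := fun j => ⟨⟨j.1, by
          rcases Finset.mem_insert.1 j.2 with h1 | h1
          · rw [h1]; exact x.2
          · exact (Finset.mem_filter.1 h1).1⟩, by
          rcases Finset.mem_insert.1 j.2 with h1 | h1
          · exact Or.inl (Subtype.ext h1)
          · right
            show N j.1 x = -1
            rw [h.symm]; exact (Finset.mem_filter.1 h1).2⟩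
        left_inv := fun y => rfl
        right_inv := fun j => rfl }
    rw [Nat.card_congr e1, Nat.card_eq_fintype_card, Fintype.card_coe, Finset.card_insert_of_notMem,
      h.card_neg x.2]
    intro h1
    have h2 := (Finset.mem_filter.1 h1).2
    rw [h.diag] at h2
    norm_num at h2
  obtain ⟨e, he⟩ := exists_enum r hcard h3
  have gram : ∀ p p', N (e p : I) (e p' : I) = if p = p' then 5 else if p.1 = p'.1 then -1 else 1 := by
    intro p p'
    by_cases hp : p = p'
    · rw [if_pos hp, hp, h.diag]
    · rw [if_neg hp]
      have hne : (e p : I) ≠ e p' := fun h1 => hp (e.injective (Subtype.ext h1))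
      by_cases hp1 : p.1 = p'.1
      · rw [if_pos hp1]
        rcases (hr _ _).1 ((he p p').2 hp1) with h1 | h1
        · exact absurd (congrArg Subtype.val h1) hne
        · exact h1
      · rw [if_neg hp1]
        rcases h.off _ _ hne with h1 | h1
        · exact h1
        · exact absurd ((he p p').1 ((hr _ _).2 (Or.inr h1))) hp1
  refine ⟨fun p => (e p : I), h, ?_, ?_, gram, ?_⟩
  · exact Subtype.val_injective.comp e.injective
  · intro i
    constructor
    · rintro ⟨p, rfl⟩
      exact (e p).2
    · intro hi
      exact ⟨e.symm ⟨i, hi⟩, by rw [Equiv.apply_symm_apply]⟩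
  · intro k m
    have g1 : N (e (k, 0) : I) (e (k, 1) : I) = -1 := by
      rw [gram, if_neg (by simp), if_pos rfl]
    have g2 : N (e (k, 0) : I) (e (k, 2) : I) = -1 := by
      rw [gram, if_neg (by simp; decide), if_pos rfl]
    have g3 : (e (k, 1) : I) ≠ e (k, 2) := by
      intro h1
      have := e.injective (Subtype.ext h1)
      simp at this
      exact absurd this (by decide)
    exact ((h.triple (e (k, 0)).2 (e (k, 1)).2 (e (k, 2)).2 g1 g2 g3).2 m).symm

end Cfsg.Agent.McLGraph.Enum
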