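import Cfsg.Agent.McLGraph.Gram

set_option autoImplicit false
set_option linter.unusedSectionVars false

/-!
The 33 + 243 decomposition of a regular two-graph on 276 points with respect to a triple of vectors with pairwise
inner products `-1`.
-/

namespace Cfsg.Agent.McLGraph.Frame

open Cfsg.Agent.McLGraph.Gram

variable {I : Type*} [Fintype I] [DecidableEq I]

/-- the sum of three rows. -/
def s (N : I → I → ℤ) (a b c : I) : I → ℤ := fun i => N a i + N b i + N c i

/-- a Gram matrix normalised with respect to a triple. -/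
structure IsFramed (N : I → I → ℤ) (a b c : I) : Prop extends IsTwoGraph N where
  ab : N a b = -1
  ac : N a c = -1
  bc : N b c = -1
  pos : ∀ i, 0 < s N a b c i

/-- the 33 vectors. -/
def F (N : I → I → ℤ) (a b c : I) : Finset I := Finset.univ.filter fun i => s N a b c i = 3

theorem mem_F {N : I → I → ℤ} {a b c i : I} : i ∈ F N a b c ↔ s N a b c i = 3 := by
  simp [F]

theorem parity {N : I → I → ℤ} (h : IsTwoGraph N) (i j : I) : Odd (N i j) := by
  by_cases hij : i = j
  · subst hij
    rw [h.diag]
    decide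
  · rcases h.off i j hij with h1 | h1 <;> rw [h1] <;> decide

namespace IsFramed

variable {N : I → I → ℤ} {a b c : I} (h : IsFramed N a b c)
include h

theorem s_mem : s N a b c ∈ V N := by
  have := (V N).add_mem ((V N).add_mem (h.row_mem a) (h.row_mem b)) (h.row_mem c)
  exact this

theorem ne_ab : a ≠ b := by
  rintro rfl
  have h1 := h.ab
  rw [h.diag] at h1
  norm_num at h1

theorem ne_ac : a ≠ c := by
  rintro rfl
  have h1 := h.ac
  rw [h.diag] at h1
  norm_num at h1

theorem ne_bc : b ≠ c := by
  rintro rfl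
  have h1 := h.bc
  rw [h.diag] at h1
  norm_num at h1

theorem s_a : s N a b c a = 3 := by
  unfold s
  rw [h.diag, h.symm b a, h.ab, h.symm c a, h.ac]
  norm_num

theorem s_b : s N a b c b = 3 := by
  unfold s
  rw [h.diag, h.ab, h.symm c b, h.bc]
  norm_num

theorem s_c : s N a b c c = 3 := by
  unfold s
  rw [h.diag, h.ac, h.bc]
  norm_num

theorem s_cases (i : I) : s N a b c i = 1 ∨ s N a b c i = 3 := by
  by_cases ha : i = a
  · right; rw [ha]; exact h.s_a
  by_cases hb : i = b
  · right; rw [hb]; exact h.s_b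
  by_cases hc : i = c
  · right; rw [hc]; exact h.s_c
  have h0 := h.pos i
  unfold s at h0 ⊢
  rcases h.off a i (Ne.symm ha) with h1 | h1 <;> rcases h.off b i (Ne.symm hb) with h2 | h2 <;>
    rcases h.off c i (Ne.symm hc) with h3 | h3 <;> rw [h1, h2, h3] at h0 ⊢ <;>
    first
    | (left; norm_num; done)
    | (right; norm_num; done)
    | (exfalso; norm_num at h0; done)

theorem s_eq_one {i : I} (hi : i ∉ F N a b c) : s N a b c i = 1 := by
  rcases h.s_cases i with h1 | h1
  · exact h1
  · exact absurd (mem_F.2 h1) hi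

theorem sum_s_sq : ∑ m, s N a b c m ^ 2 = 540 := by
  have h1 : ∀ m, s N a b c m ^ 2 = N a m * s N a b c m + N b m * s N a b c m + N c m * s N a b c m := by
    intro m
    unfold s
    ring
  simp only [h1, Finset.sum_add_distrib]
  rw [h.s_mem a, h.s_mem b, h.s_mem c, h.s_a, h.s_b, h.s_c]
  norm_num

theorem sum_s (i : I) : ∑ m, N i m * s N a b c m = 60 * s N a b c i := h.s_mem i

theorem card_F : (F N a b c).card = 33 := by
  have h1 : ∀ m, s N a b c m ^ 2 = 1 + 8 * (if s N a b c m = 3 then 1 else 0) := by
    intro m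
    rcases h.s_cases m with h2 | h2 <;> rw [h2] <;> norm_num
  have h2 := h.sum_s_sq
  simp only [h1, Finset.sum_add_distrib, ← Finset.mul_sum] at h2
  rw [Finset.sum_boole, Finset.sum_const, Finset.card_univ, h.card] at h2
  have h3 : ((F N a b c).card : ℤ) = 33 := by
    unfold F
    simp only [nsmul_eq_mul, Nat.cast_ofNat, mul_one] at h2
    linarith
  exact_mod_cast h3

theorem sum_F (i : I) : ∑ j ∈ F N a b c, N i j = 11 * s N a b c i := by
  have h1 : ∑ m, N i m * s N a b c m ^ 3 - ∑ m, N i m * s N a b c m = 24 * ∑ j ∈ F N a b c, N i j := by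
    unfold F
    rw [← Finset.sum_sub_distrib, Finset.sum_filter, Finset.mul_sum]
    refine Finset.sum_congr rfl fun m _ => ?_
    rcases h.s_cases m with h2 | h2 <;> rw [h2] <;> norm_num
    ring
  have h2 := h.cub3 h.s_mem i
  rw [h.sum_s_sq] at h2
  rw [h.sum_s i] at h1
  linarith

/-- exactly two of the 33 vectors have inner product `-1` with a given one. -/
theorem card_neg {i : I} (hi : i ∈ F N a b c) : ((F N a b c).filter fun j => N i j = -1).card = 2 := by
  have h1 := h.sum_F i
  rw [mem_F.1 hi] at h1
  have h2 : ∀ j, N i j = 1 + 4 * (if i = j then 1 else 0) - 2 * (if N i j = -1 then 1 else 0) := by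
    intro j
    by_cases hij : i = j
    · subst hij
      rw [h.diag]
      norm_num
    · rcases h.off i j hij with h3 | h3 <;> rw [h3, if_neg hij] <;> norm_num
  rw [Finset.sum_congr rfl (fun j _ => h2 j), Finset.sum_sub_distrib, Finset.sum_add_distrib,
    ← Finset.mul_sum, ← Finset.mul_sum, Finset.sum_ite_eq, if_pos hi, Finset.sum_boole, Finset.sum_const,
    h.card_F] at h1
  have h3 : (((F N a b c).filter fun j => N i j = -1).card : ℤ) = 2 := by
    simp only [nsmul_eq_mul, Nat.cast_ofNat, mul_one] at h1
    linarith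
  exact_mod_cast h3

/-- triples. -/
theorem triple {i j k : I} (hi : i ∈ F N a b c) (hj : j ∈ F N a b c) (hk : k ∈ F N a b c)
    (hij : N i j = -1) (hik : N i k = -1) (hjk : j ≠ k) :
    N j k = -1 ∧ ∀ m, s N a b c m = N i m + N j m + N k m := by
  have hV : (fun m => s N a b c m - (N i m + N j m + N k m)) ∈ V N := by
    have := (V N).sub_mem h.s_mem
      ((V N).add_mem ((V N).add_mem (h.row_mem i) (h.row_mem j)) (h.row_mem k))
    exact this
  have hs : ∑ m, (s N a b c m - (N i m + N j m + N k m)) ^ 2 = 120 + 120 * N j k := by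
    have h1 : ∀ m, (s N a b c m - (N i m + N j m + N k m)) ^ 2 =
        s N a b c m ^ 2 - 2 * (N i m * s N a b c m) - 2 * (N j m * s N a b c m) - 2 * (N k m * s N a b c m)
        + N i m ^ 2 + N j m ^ 2 + N k m ^ 2 + 2 * (N i m * N j m) + 2 * (N i m * N k m)
        + 2 * (N j m * N k m) := by
      intro m
      ring
    simp only [h1, Finset.sum_add_distrib, Finset.sum_sub_distrib, ← Finset.mul_sum]
    rw [h.sum_s_sq, h.sum_s i, h.sum_s j, h.sum_s k, h.sum_sq, h.sum_sq, h.sum_sq, h.sq i j, h.sq i k,
      h.sq j k, hij, hik, mem_F.1 hi, mem_F.1 hj, mem_F.1 hk]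
    ring
  have h2 : N j k = -1 := by
    rcases h.off j k hjk with h3 | h3
    · exfalso
      rw [h3] at hs
      refine h.no_norm_four hV ?_ (by rw [hs]; norm_num)
      intro m
      have e1 : Odd (s N a b c m) := by
        unfold s
        exact ((parity h.toIsTwoGraph a m).add_odd (parity h.toIsTwoGraph b m)).add_odd
          (parity h.toIsTwoGraph c m)
      have e2 : Odd (N i m + N j m + N k m) :=
        ((parity h.toIsTwoGraph i m).add_odd (parity h.toIsTwoGraph j m)).add_odd
          (parity h.toIsTwoGraph k m)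
      exact e1.sub_odd e2
    · exact h3
  refine ⟨h2, ?_⟩
  rw [h2] at hs
  norm_num at hs
  intro m
  have h3 := (Finset.sum_eq_zero_iff_of_nonneg (fun m _ => sq_nonneg _)).1 hs m (Finset.mem_univ _)
  have h4 := pow_eq_zero_iff (two_ne_zero) |>.1 h3
  linarith

end IsFramed

end Cfsg.Agent.McLGraph.Frame
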