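import Mathlib

set_option autoImplicit false
set_option linter.unusedSectionVars false

/-!
Gram matrices `N` of 276 equiangular lines in dimension 23 (regular two-graphs on 276 points): `N = 5 I + S`,
`N ^ 2 = 60 N`. The rows of `N` form a tight spherical design (Goethals–Seidel).
-/

namespace Cfsg.Agent.McLGraph.Gram

variable {I : Type*} [Fintype I] [DecidableEq I]

/-- Gram matrix of 276 vectors of norm 5 with inner products `±1` in dimension 23. -/
structure IsTwoGraph (N : I → I → ℤ) : Prop where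
  card : Fintype.card I = 276
  diag : ∀ i, N i i = 5
  off : ∀ i j, i ≠ j → N i j = 1 ∨ N i j = -1
  symm : ∀ i j, N i j = N j i
  sq : ∀ i j, ∑ m, N i m * N j m = 60 * N i j

theorem sum_comm4 (F : I → I → I → I → ℤ) :
    ∑ k, ∑ l, ∑ m, ∑ n, F k l m n = ∑ m, ∑ n, ∑ k, ∑ l, F k l m n := by
  have h1 : ∀ k, ∑ l, ∑ m, ∑ n, F k l m n = ∑ m, ∑ n, ∑ l, F k l m n := by
    intro k
    rw [Finset.sum_comm]
    exact Finset.sum_congr rfl fun m _ => Finset.sum_comm
  simp only [h1]
  rw [Finset.sum_comm]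
  exact Finset.sum_congr rfl fun m _ => Finset.sum_comm

namespace IsTwoGraph

variable {N : I → I → ℤ} (h : IsTwoGraph N)
include h

theorem sq' (i j : I) : ∑ m, N m i * N m j = 60 * N i j := by
  rw [← h.sq i j]
  exact Finset.sum_congr rfl fun m _ => by rw [h.symm m i, h.symm m j]

theorem sq'' (i j : I) : ∑ m, N i m * N m j = 60 * N i j := by
  rw [← h.sq i j]
  exact Finset.sum_congr rfl fun m _ => by rw [h.symm m j]

theorem mul_self (i j : I) : N i j ^ 2 = 1 + 24 * (if i = j then 1 else 0) := by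
  by_cases hij : i = j
  · subst hij
    rw [h.diag, if_pos rfl]
    norm_num
  · rw [if_neg hij]
    rcases h.off i j hij with h1 | h1 <;> rw [h1] <;> norm_num

theorem sum_sq (i : I) : ∑ m, N i m ^ 2 = 300 := by
  have := h.sq i i
  rw [h.diag] at this
  rw [show (300 : ℤ) = 60 * 5 by norm_num, ← this]
  exact Finset.sum_congr rfl fun m _ => pow_two _

/-- `D = ∑ m, (N i m) ^ 2 (N j m) ^ 2`. -/
theorem sum_sq_sq (i j : I) : ∑ m, (N i m * N j m) ^ 2 = 24 * N i j ^ 2 + 300 := by
  have h1 : ∀ m, (N i m * N j m) ^ 2 = N j m ^ 2 + 24 * (if i = m then N j m ^ 2 else 0) := by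
    intro m
    rw [mul_pow, h.mul_self i m]
    split_ifs <;> ring
  simp only [h1]
  rw [Finset.sum_add_distrib, ← Finset.mul_sum, h.sum_sq, Finset.sum_ite_eq, if_pos (Finset.mem_univ _),
    h.symm j i]
  ring

theorem sp (i j : I) : ∑ k, ∑ l, (∑ m, N i m * N j m * N k m * N l m) ^ 2 =
    3600 * (3600 * N i j ^ 2 + 24 * (24 * N i j ^ 2 + 300)) := by
  have h1 : ∀ k l, (∑ m, N i m * N j m * N k m * N l m) ^ 2 =
      ∑ m, ∑ n, (N i m * N j m) * (N i n * N j n) * ((N k m * N k n) * (N l m * N l n)) := by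
    intro k l
    rw [pow_two, Finset.sum_mul_sum]
    exact Finset.sum_congr rfl fun m _ => Finset.sum_congr rfl fun n _ => by ring
  simp only [h1]
  rw [sum_comm4]
  have h2 : ∀ m n, ∑ k, ∑ l, (N i m * N j m) * (N i n * N j n) * ((N k m * N k n) * (N l m * N l n)) =
      3600 * ((N i m * N j m) * (N i n * N j n)) +
        3600 * 24 * (if m = n then (N i m * N j m) * (N i n * N j n) else 0) := by
    intro m n
    have h3 : ∀ k, ∑ l, (N i m * N j m) * (N i n * N j n) * ((N k m * N k n) * (N l m * N l n)) =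
        (N i m * N j m) * (N i n * N j n) * (N k m * N k n) * (60 * N m n) := by
      intro k
      rw [← h.sq' m n, Finset.mul_sum]
      exact Finset.sum_congr rfl fun l _ => by ring
    simp only [h3]
    rw [← Finset.sum_mul, ← Finset.mul_sum, h.sq' m n]
    have h4 := h.mul_self m n
    have h5 : (N i m * N j m) * (N i n * N j n) * (60 * N m n) * (60 * N m n) =
      (N i m * N j m) * (N i n * N j n) * 3600 * (N m n ^ 2) := by ring
    rw [h5, h4]
    split_ifs <;> ring
  simp only [h2]
  simp only [Finset.sum_add_distrib, ← Finset.mul_sum]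
  have h6 : ∑ m, (N i m * N j m) * ∑ n, (N i n * N j n) = (60 * N i j) ^ 2 := by
    rw [h.sq i j, ← Finset.sum_mul, h.sq i j]
    ring
  rw [h6]
  have h7 : ∑ m, ∑ n, (if m = n then (N i m * N j m) * (N i n * N j n) else 0) = 24 * N i j ^ 2 + 300 := by
    rw [← h.sum_sq_sq i j]
    refine Finset.sum_congr rfl fun m _ => ?_
    rw [Finset.sum_ite_eq, if_pos (Finset.mem_univ _)]
    ring
  rw [h7]
  ring

theorem spq1 (i j : I) : ∑ k, ∑ l, (∑ m, N i m * N j m * N k m * N l m) * N k l = 1080000 * N i j := by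
  have h1 : ∀ k, ∑ l, (∑ m, N i m * N j m * N k m * N l m) * N k l =
      60 * ∑ m, N i m * N j m * N k m ^ 2 := by
    intro k
    simp only [Finset.sum_mul]
    rw [Finset.sum_comm, Finset.mul_sum]
    refine Finset.sum_congr rfl fun m _ => ?_
    have : ∀ l, N i m * N j m * N k m * N l m * N k l = N i m * N j m * N k m * (N k l * N l m) := by
      intro l; ring
    simp only [this]
    rw [← Finset.mul_sum, h.sq'' k m]
    ring
  simp only [h1]
  rw [← Finset.mul_sum, Finset.sum_comm]
  have h2 : ∀ m, ∑ k, N i m * N j m * N k m ^ 2 = 300 * (N i m * N j m) := by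
    intro m
    rw [← Finset.mul_sum]
    have : ∑ k, N k m ^ 2 = 300 := by
      rw [← h.sum_sq m]
      exact Finset.sum_congr rfl fun k _ => by rw [h.symm k m]
    rw [this]
    ring
  simp only [h2]
  rw [← Finset.mul_sum, h.sq i j]
  ring

theorem spq2 (i j : I) : ∑ k, ∑ l, (∑ m, N i m * N j m * N k m * N l m) * (N i k * N j l) =
    3600 * (24 * N i j ^ 2 + 300) := by
  have h1 : ∀ k, ∑ l, (∑ m, N i m * N j m * N k m * N l m) * (N i k * N j l) =
      60 * ∑ m, N i m * N j m * N k m * N i k * N j m := by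
    intro k
    simp only [Finset.sum_mul]
    rw [Finset.sum_comm, Finset.mul_sum]
    refine Finset.sum_congr rfl fun m _ => ?_
    have : ∀ l, N i m * N j m * N k m * N l m * (N i k * N j l) =
        N i m * N j m * N k m * N i k * (N j l * N l m) := by
      intro l; ring
    simp only [this]
    rw [← Finset.mul_sum, h.sq'' j m]
    ring
  simp only [h1]
  rw [← Finset.mul_sum, Finset.sum_comm]
  have h2 : ∀ m, ∑ k, N i m * N j m * N k m * N i k * N j m = 60 * (N i m * N j m) ^ 2 := by
    intro m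
    have : ∀ k, N i m * N j m * N k m * N i k * N j m = N i m * N j m * N j m * (N i k * N k m) := by
      intro k; ring
    simp only [this]
    rw [← Finset.mul_sum, h.sq'' i m]
    ring
  simp only [h2]
  rw [← Finset.mul_sum, h.sum_sq_sq i j]
  ring

theorem spq3 (i j : I) : ∑ k, ∑ l, (∑ m, N i m * N j m * N k m * N l m) * (N i l * N j k) =
    3600 * (24 * N i j ^ 2 + 300) := by
  rw [← h.spq2 i j, Finset.sum_comm]
  refine Finset.sum_congr rfl fun l _ => Finset.sum_congr rfl fun k _ => ?_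
  congr 1
  exact Finset.sum_congr rfl fun m _ => by ring

theorem sq11 : ∑ k, ∑ l, N k l ^ 2 = 82800 := by
  simp only [h.sum_sq, Finset.sum_const, Finset.card_univ, h.card]
  norm_num

theorem sq22 (i j : I) : ∑ k, ∑ l, (N i k * N j l) ^ 2 = 90000 := by
  simp only [mul_pow, ← Finset.mul_sum, h.sum_sq, ← Finset.sum_mul]
  norm_num

theorem sq33 (i j : I) : ∑ k, ∑ l, (N i l * N j k) ^ 2 = 90000 := by
  rw [← h.sq22 i j, Finset.sum_comm]

theorem sq12 (i j : I) : ∑ k, ∑ l, N k l * (N i k * N j l) = 3600 * N i j := by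
  have h1 : ∀ k, ∑ l, N k l * (N i k * N j l) = 60 * (N i k * N j k) := by
    intro k
    have : ∀ l, N k l * (N i k * N j l) = N i k * (N j l * N k l) := by
      intro l; ring
    simp only [this]
    rw [← Finset.mul_sum, h.sq j k]
    ring
  simp only [h1]
  rw [← Finset.mul_sum, h.sq i j]
  ring

theorem sq13 (i j : I) : ∑ k, ∑ l, N k l * (N i l * N j k) = 3600 * N i j := by
  rw [← h.sq12 i j, Finset.sum_comm]
  exact Finset.sum_congr rfl fun l _ => Finset.sum_congr rfl fun k _ => by rw [h.symm l k]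

theorem sq23 (i j : I) : ∑ k, ∑ l, (N i k * N j l) * (N i l * N j k) = 3600 * N i j ^ 2 := by
  have h1 : ∀ k, ∑ l, (N i k * N j l) * (N i l * N j k) = (N i k * N j k) * (60 * N i j) := by
    intro k
    rw [← h.sq i j, Finset.mul_sum]
    exact Finset.sum_congr rfl fun l _ => by ring
  simp only [h1]
  rw [← Finset.sum_mul, h.sq i j]
  ring

theorem quad_aux (i j : I) : ∑ k, ∑ l, (∑ m, N i m * N j m * N k m * N l m -
    12 * (N i j * N k l + N i k * N j l + N i l * N j k)) ^ 2 = 0 := by
  have h1 : ∀ k l, (∑ m, N i m * N j m * N k m * N l m -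
      12 * (N i j * N k l + N i k * N j l + N i l * N j k)) ^ 2 =
      (∑ m, N i m * N j m * N k m * N l m) ^ 2
      - 24 * N i j * ((∑ m, N i m * N j m * N k m * N l m) * N k l)
      - 24 * ((∑ m, N i m * N j m * N k m * N l m) * (N i k * N j l))
      - 24 * ((∑ m, N i m * N j m * N k m * N l m) * (N i l * N j k))
      + 144 * N i j ^ 2 * (N k l ^ 2) + 144 * ((N i k * N j l) ^ 2) + 144 * ((N i l * N j k) ^ 2)
      + 288 * N i j * (N k l * (N i k * N j l)) + 288 * N i j * (N k l * (N i l * N j k))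
      + 288 * ((N i k * N j l) * (N i l * N j k)) := by
    intro k l
    ring
  simp only [h1, Finset.sum_add_distrib, Finset.sum_sub_distrib, ← Finset.mul_sum]
  rw [h.sp, h.spq1, h.spq2, h.spq3, h.sq11, h.sq22, h.sq33, h.sq12, h.sq13, h.sq23]
  ring

/-- the rows of `N` form a spherical 4-design. -/
theorem quad (i j k l : I) : ∑ m, N i m * N j m * N k m * N l m =
    12 * (N i j * N k l + N i k * N j l + N i l * N j k) := by
  have h1 := h.quad_aux i j
  have h2 := (Finset.sum_eq_zero_iff_of_nonneg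
    (fun k _ => Finset.sum_nonneg fun l _ => sq_nonneg _)).1 h1 k (Finset.mem_univ _)
  have h3 := (Finset.sum_eq_zero_iff_of_nonneg (fun l _ => sq_nonneg _)).1 h2 l (Finset.mem_univ _)
  have h4 := pow_eq_zero_iff (two_ne_zero) |>.1 h3
  linarith

end IsTwoGraph

/-- The lattice-like submodule of integral vectors in the eigenspace. -/
def V (N : I → I → ℤ) : Submodule ℤ (I → ℤ) where
  carrier := {y | ∀ i, ∑ m, N i m * y m = 60 * y i}
  zero_mem' := by
    intro i
    simp
  add_mem' := by
    intro y z hy hz i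
    simp only [Pi.add_apply, mul_add, Finset.sum_add_distrib]
    rw [hy i, hz i]
  smul_mem' := by
    intro c y hy i
    simp only [Pi.smul_apply, smul_eq_mul]
    rw [← mul_assoc, mul_comm 60 c, mul_assoc, ← hy i, Finset.mul_sum]
    exact Finset.sum_congr rfl fun m _ => by ring

theorem mem_V {N : I → I → ℤ} {y : I → ℤ} : y ∈ V N ↔ ∀ i, ∑ m, N i m * y m = 60 * y i := Iff.rfl

namespace IsTwoGraph

variable {N : I → I → ℤ} (h : IsTwoGraph N)
include h

theorem row_mem (i : I) : N i ∈ V N := by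
  intro j
  rw [h.sq j i, h.symm j i]

theorem cub1 {y : I → ℤ} (hy : y ∈ V N) (i j k : I) :
    ∑ m, N i m * N j m * N k m * y m = 12 * (N i j * y k + N i k * y j + N j k * y i) := by
  have h1 : ∑ l, (∑ m, N i m * N j m * N k m * N l m) * y l = 60 * ∑ m, N i m * N j m * N k m * y m := by
    simp only [Finset.sum_mul]
    rw [Finset.sum_comm, Finset.mul_sum]
    refine Finset.sum_congr rfl fun m _ => ?_
    have : ∀ l, N i m * N j m * N k m * N l m * y l = N i m * N j m * N k m * (N m l * y l) := by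
      intro l
      rw [h.symm l m]
      ring
    simp only [this]
    rw [← Finset.mul_sum, hy m]
    ring
  have h2 : ∑ l, (∑ m, N i m * N j m * N k m * N l m) * y l =
      12 * (N i j * (60 * y k) + N i k * (60 * y j) + N j k * (60 * y i)) := by
    have h3 : ∀ l, (∑ m, N i m * N j m * N k m * N l m) * y l =
        12 * N i j * (N k l * y l) + 12 * N i k * (N j l * y l) + 12 * N j k * (N i l * y l) := by
      intro l
      rw [h.quad i j k l]
      ring
    simp only [h3, Finset.sum_add_distrib, ← Finset.mul_sum]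
    rw [hy k, hy j, hy i]
    ring
  rw [h2] at h1
  linarith

theorem cub2 {y : I → ℤ} (hy : y ∈ V N) (i j : I) :
    5 * ∑ m, N i m * N j m * y m ^ 2 = N i j * (∑ m, y m ^ 2) + 120 * (y i * y j) := by
  have h1 : ∑ l, (∑ m, N i m * N j m * N l m * y m) * y l = 60 * ∑ m, N i m * N j m * y m ^ 2 := by
    simp only [Finset.sum_mul]
    rw [Finset.sum_comm, Finset.mul_sum]
    refine Finset.sum_congr rfl fun m _ => ?_
    have : ∀ l, N i m * N j m * N l m * y m * y l = N i m * N j m * y m * (N m l * y l) := by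
      intro l
      rw [h.symm l m]
      ring
    simp only [this]
    rw [← Finset.mul_sum, hy m]
    ring
  have h2 : ∑ l, (∑ m, N i m * N j m * N l m * y m) * y l =
      12 * (N i j * (∑ m, y m ^ 2)) + 12 * y j * (60 * y i) + 12 * y i * (60 * y j) := by
    have h3 : ∀ l, (∑ m, N i m * N j m * N l m * y m) * y l =
        12 * N i j * (y l ^ 2) + 12 * y j * (N i l * y l) + 12 * y i * (N j l * y l) := by
      intro l
      rw [h.cub1 hy i j l]
      ring
    simp only [h3, Finset.sum_add_distrib, ← Finset.mul_sum]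
    rw [hy j, hy i]
    ring
  rw [h2] at h1
  linarith

theorem cub3 {y : I → ℤ} (hy : y ∈ V N) (i : I) :
    5 * ∑ m, N i m * y m ^ 3 = 3 * y i * ∑ m, y m ^ 2 := by
  have h1 : ∑ l, (5 * ∑ m, N i m * N l m * y m ^ 2) * y l = 300 * ∑ m, N i m * y m ^ 3 := by
    simp only [mul_assoc, Finset.sum_mul, Finset.mul_sum]
    rw [Finset.sum_comm]
    refine Finset.sum_congr rfl fun m _ => ?_
    have : ∀ l, 5 * (N i m * (N l m * (y m ^ 2 * y l))) = 5 * N i m * y m ^ 2 * (N m l * y l) := by
      intro l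
      rw [h.symm l m]
      ring
    simp only [this]
    rw [← Finset.mul_sum, hy m]
    ring
  have h2 : ∑ l, (5 * ∑ m, N i m * N l m * y m ^ 2) * y l =
      (60 * y i) * (∑ m, y m ^ 2) + 120 * y i * (∑ m, y m ^ 2) := by
    have h3 : ∀ l, (5 * ∑ m, N i m * N l m * y m ^ 2) * y l =
        (N i l * y l) * (∑ m, y m ^ 2) + 120 * y i * (y l ^ 2) := by
      intro l
      rw [h.cub2 hy i l]
      ring
    simp only [h3, Finset.sum_add_distrib, ← Finset.mul_sum, ← Finset.sum_mul]
    rw [hy i]
  rw [h2] at h1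
  linarith

theorem cub4 {y : I → ℤ} (hy : y ∈ V N) : 100 * ∑ m, y m ^ 4 = (∑ m, y m ^ 2) ^ 2 := by
  have h1 : ∑ l, (5 * ∑ m, N l m * y m ^ 3) * y l = 300 * ∑ m, y m ^ 4 := by
    simp only [mul_assoc, Finset.sum_mul, Finset.mul_sum]
    rw [Finset.sum_comm]
    refine Finset.sum_congr rfl fun m _ => ?_
    have : ∀ l, 5 * (N l m * (y m ^ 3 * y l)) = 5 * y m ^ 3 * (N m l * y l) := by
      intro l
      rw [h.symm l m]
      ring
    simp only [this]
    rw [← Finset.mul_sum, hy m]
    ring
  have h2 : ∑ l, (5 * ∑ m, N l m * y m ^ 3) * y l = 3 * (∑ m, y m ^ 2) ^ 2 := by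
    have h3 : ∀ l, (5 * ∑ m, N l m * y m ^ 3) * y l = 3 * (∑ m, y m ^ 2) * (y l ^ 2) := by
      intro l
      rw [h.cub3 hy l]
      ring
    simp only [h3, ← Finset.mul_sum]
    ring
  rw [h2] at h1
  linarith

/-- there is no vector of norm 4. -/
theorem no_norm_four {y : I → ℤ} (hy : y ∈ V N) (he : ∀ m, Even (y m)) (hn : ∑ m, y m ^ 2 = 240) : False := by
  have h4 := h.cub4 hy
  rw [hn] at h4
  have h5 : ∀ m, 4 * y m ^ 2 ≤ y m ^ 4 := by
    intro m
    obtain ⟨t, ht⟩ := he m
    rw [ht]
    by_cases h0 : t = 0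
    · subst h0; simp
    · have h6 : 1 ≤ t ^ 2 := by
        have : 0 < t ^ 2 := by positivity
        omega
      nlinarith [sq_nonneg t]
  have h6 : ∑ m, 4 * y m ^ 2 ≤ ∑ m, y m ^ 4 := Finset.sum_le_sum fun m _ => h5 m
  rw [← Finset.mul_sum, hn] at h6
  linarith

/-- integral vectors of norm 5 with odd inner products with all the vectors are among the vectors, up to sign. -/
theorem complete {y : I → ℤ} (hy : y ∈ V N) (ho : ∀ m, Odd (y m)) (hn : ∑ m, y m ^ 2 = 300) :
    ∃ i, (∀ m, y m = N i m) ∨ (∀ m, y m = - N i m) := by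
  have h4 := h.cub4 hy
  rw [hn] at h4
  have h5 : ∃ m, 5 ≤ |y m| := by
    by_contra hcon
    push Not at hcon
    have h6 : ∀ m, y m ^ 4 ≤ 10 * y m ^ 2 - 9 := by
      intro m
      have h7 := hcon m
      have h8 : |y m| ≤ 4 := by omega
      have h9 := abs_le.1 h8
      obtain ⟨t, ht⟩ := ho m
      have h10 : -3 ≤ y m ∧ y m ≤ 3 := by omega
      have h11 : 0 ≤ (9 - y m ^ 2) * (y m ^ 2 - 1) := by
        apply mul_nonneg
        · nlinarith
        · have : y m ≠ 0 := by omega
          have : 0 < y m ^ 2 := by positivity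
          omega
      nlinarith
    have h7 : ∑ m, y m ^ 4 ≤ ∑ m, (10 * y m ^ 2 - 9) := Finset.sum_le_sum fun m _ => h6 m
    rw [Finset.sum_sub_distrib, ← Finset.mul_sum, hn, Finset.sum_const, Finset.card_univ, h.card] at h7
    norm_num at h7
    linarith
  obtain ⟨i, hi⟩ := h5
  refine ⟨i, ?_⟩
  rcases le_abs.1 hi with h6 | h6
  · left
    have h7 : ∑ m, (y m - N i m) ^ 2 = 600 - 120 * y i := by
      have : ∀ m, (y m - N i m) ^ 2 = y m ^ 2 + N i m ^ 2 - 2 * (N i m * y m) := by intro m; ring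
      simp only [this, Finset.sum_sub_distrib, Finset.sum_add_distrib, ← Finset.mul_sum]
      rw [hn, h.sum_sq, hy i]
      ring
    have h8 : ∑ m, (y m - N i m) ^ 2 = 0 := by
      apply le_antisymm
      · rw [h7]; linarith
      · exact Finset.sum_nonneg fun m _ => sq_nonneg _
    intro m
    have := (Finset.sum_eq_zero_iff_of_nonneg (fun m _ => sq_nonneg _)).1 h8 m (Finset.mem_univ _)
    have := pow_eq_zero_iff (two_ne_zero) |>.1 this
    linarith
  · right
    have h7 : ∑ m, (y m + N i m) ^ 2 = 600 + 120 * y i := by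
      have : ∀ m, (y m + N i m) ^ 2 = y m ^ 2 + N i m ^ 2 + 2 * (N i m * y m) := by intro m; ring
      simp only [this, Finset.sum_add_distrib, ← Finset.mul_sum]
      rw [hn, h.sum_sq, hy i]
      ring
    have h8 : ∑ m, (y m + N i m) ^ 2 = 0 := by
      apply le_antisymm
      · rw [h7]; linarith
      · exact Finset.sum_nonneg fun m _ => sq_nonneg _
    intro m
    have := (Finset.sum_eq_zero_iff_of_nonneg (fun m _ => sq_nonneg _)).1 h8 m (Finset.mem_univ _)
    have := pow_eq_zero_iff (two_ne_zero) |>.1 this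
    linarith

end IsTwoGraph

end Cfsg.Agent.McLGraph.Gram
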