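import Mathlib

set_option autoImplicit false
set_option linter.unusedSectionVars false

/-!
Information sets of linear codes through a given coordinate.
-/

namespace Cfsg.Agent.McLGraph.InfoSet

/-- A code of dimension `5` over the field with 3 elements has an information set containing a given coordinate on
which it does not vanish. -/
theorem exists_info (C : Submodule (ZMod 3) (Fin 11 → ZMod 3)) (hC : Nat.card C = 243) (q0 : Fin 11)
    (h0 : ∃ v ∈ C, v q0 ≠ 0) :
    ∃ b : Option (Fin 4) → Fin 11, Function.Injective b ∧ b none = q0 ∧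
      (∀ v ∈ C, (∀ i, v (b i) = 0) → v = 0) ∧ ∀ u : Option (Fin 4) → ZMod 3, ∃ v ∈ C, ∀ i, v (b i) = u i := by
  classical
  have : Fact (Nat.Prime 3) := ⟨by norm_num⟩
  let φ : Fin 11 → Module.Dual (ZMod 3) C := fun q => (LinearMap.proj q).comp C.subtype
  have hφ : ∀ q (v : C), φ q v = (v : Fin 11 → ZMod 3) q := fun q v => rfl
  have hs : LinearIndepOn (ZMod 3) φ {q0} := by
    rw [linearIndepOn_singleton_iff]
    intro h1
    obtain ⟨v, hv, hv0⟩ := h0
    exact hv0 (LinearMap.congr_fun h1 (⟨v, hv⟩ : C))
  set B : Set (Fin 11) := hs.extend (Set.subset_univ _) with hB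
  have hB0 : q0 ∈ B := hs.subset_extend _ rfl
  have hBi : LinearIndepOn (ZMod 3) φ B := hs.linearIndepOn_extend _
  have hspan : ∀ q, φ q ∈ Submodule.span (ZMod 3) (φ '' B) := fun q =>
    hs.image_subset_span_image_extend (Set.subset_univ _) ⟨q, Set.mem_univ _, rfl⟩
  have hinj : ∀ v ∈ C, (∀ b ∈ B, v b = 0) → v = 0 := by
    intro v hv hvB
    funext q
    have h1 : ∀ ψ ∈ Submodule.span (ZMod 3) (φ '' B), ψ ⟨v, hv⟩ = 0 := by
      intro ψ hψ
      induction hψ using Submodule.span_induction with
      | mem x hx =>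
        obtain ⟨b, hb, rfl⟩ := hx
        exact hvB b hb
      | zero => rfl
      | add x y _ _ hx hy => rw [LinearMap.add_apply, hx, hy, add_zero]
      | smul a x _ hx => rw [LinearMap.smul_apply, hx, smul_zero]
    exact h1 _ (hspan q)
  -- dimension of C
  have hfin : Module.finrank (ZMod 3) C = 5 := by
    have h1 := Module.card_eq_pow_finrank (K := ZMod 3) (V := C)
    rw [← Nat.card_eq_fintype_card, hC, ZMod.card] at h1
    have : (3 : ℕ) ^ 5 = 3 ^ Module.finrank (ZMod 3) C := by rw [← h1]; norm_num
    exact (Nat.pow_right_injective (le_refl 2 |>.trans (by norm_num)) this).symm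
  have hle : Fintype.card B ≤ 5 := by
    have h1 := hBi.fintype_card_le_finrank
    rw [Subspace.dual_finrank_eq, hfin] at h1
    exact h1
  -- evaluation map
  let ev : C → (B → ZMod 3) := fun v b => (v : Fin 11 → ZMod 3) b
  have hev : Function.Injective ev := by
    intro v w hvw
    have h1 := hinj (v - w : C) (v - w : C).2 (by
      intro b hb
      have := congrFun hvw ⟨b, hb⟩
      show (v : Fin 11 → ZMod 3) b - (w : Fin 11 → ZMod 3) b = 0
      exact sub_eq_zero.2 this)
    exact sub_eq_zero.1 (Subtype.ext h1)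
  have hge : 5 ≤ Fintype.card B := by
    have h1 := Fintype.card_le_of_injective ev hev
    rw [← Nat.card_eq_fintype_card (α := C), hC, Fintype.card_fun, ZMod.card] at h1
    by_contra hlt
    push Not at hlt
    have h2 : 3 ^ Fintype.card B ≤ 3 ^ 4 := Nat.pow_le_pow_right (by norm_num) (by omega)
    have h3 : 243 ≤ 3 ^ 4 := h1.trans h2
    norm_num at h3
  have hcard : Fintype.card B = 5 := le_antisymm hle hge
  have hbij : Function.Bijective ev := by
    rw [Fintype.bijective_iff_injective_and_card]
    refine ⟨hev, ?_⟩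
    rw [← Nat.card_eq_fintype_card (α := C), hC, Fintype.card_fun, ZMod.card, hcard]
    norm_num
  -- enumeration
  have e0 : Option (Fin 4) ≃ B := Fintype.equivOfCardEq (by rw [hcard]; rfl)
  let e : Option (Fin 4) ≃ B := e0.trans (Equiv.swap (e0 none) ⟨q0, hB0⟩)
  have he0 : e none = ⟨q0, hB0⟩ := by
    show Equiv.swap (e0 none) ⟨q0, hB0⟩ (e0 none) = _
    rw [Equiv.swap_apply_left]
  refine ⟨fun i => (e i : Fin 11), Subtype.val_injective.comp e.injective, by simp only [he0], ?_, ?_⟩
  · intro v hv h1
    apply hinj v hv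
    intro b hb
    have := h1 (e.symm ⟨b, hb⟩)
    simpa using this
  · intro u
    obtain ⟨v, hv⟩ := hbij.2 (fun b => u (e.symm b))
    refine ⟨v, v.2, fun i => ?_⟩
    have := congrFun hv (e i)
    simpa using this

end Cfsg.Agent.McLGraph.InfoSet
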