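import Cfsg.Agent.McLGraph.Word
import Cfsg.Agent.McLGraph.Classify

set_option autoImplicit false
set_option linter.unusedSectionVars false

/-!
The standard model of the regular two-graph on 276 points, and the isomorphism onto it.
-/

namespace Cfsg.Agent.McLGraph.Model

open Cfsg.Agent.McLGraph.Gram Cfsg.Agent.McLGraph.Frame Cfsg.Agent.McLGraph.Enum Cfsg.Agent.McLGraph.Word
  Cfsg.Agent.McLGraph.Classify

/-- the 276 points of the model. -/
abbrev Pt := (J × ZMod 3) ⊕ (R → ZMod 3)

/-- number of agreements. -/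
def agreeJ (u v : J → ZMod 3) : ℕ := (Finset.univ.filter fun j => u j = v j).card

/-- the Gram matrix of the model. -/
def N0 : Pt → Pt → ℤ
  | Sum.inl p, Sum.inl p' => if p = p' then 5 else if p.1 = p'.1 then -1 else 1
  | Sum.inl p, Sum.inr l => if p.2 = enc l p.1 then -1 else 1
  | Sum.inr l, Sum.inl p => if p.2 = enc l p.1 then -1 else 1
  | Sum.inr l, Sum.inr l' => (2 * (agreeJ (enc l) (enc l') : ℤ) - 7) / 3

/-- the base point of the model. -/
def base : Pt := Sum.inl (Sum.inl (Sum.inl none), 0)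

theorem card_Pt : Fintype.card Pt = 276 := by
  rw [Fintype.card_sum, Fintype.card_prod, Fintype.card_fun]
  rfl

variable {I : Type*} [Fintype I] [DecidableEq I]
variable {N : I → I → ℤ} {a b c : I} {y : Fin 11 × ZMod 3 → I} {w : I → Fin 11 → ZMod 3}

theorem exists_word (h : IsWord N a b c y w) (q : Fin 11) (t : ZMod 3) : ∃ m ∉ F N a b c, w m q = t := by
  by_contra hcon
  push Not at hcon
  have h1 := h.sum_s (y (q, t))
  rw [mem_F.1 (h.y_mem (q, t))] at h1
  have h2 : ∀ m, N (y (q, t)) m * s N a b c m = N (y (q, t)) m * (if m ∈ F N a b c then 3 else 0) +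
      (if m ∈ F N a b c then 0 else 1) := by
    intro m
    by_cases hm : m ∈ F N a b c
    · rw [if_pos hm, if_pos hm, mem_F.1 hm]
      ring
    · rw [if_neg hm, if_neg hm, h.s_eq_one hm, h.word m hm, if_neg (fun e => hcon m hm e.symm)]
      ring
  simp only [h2, Finset.sum_add_distrib, mul_ite, mul_zero] at h1
  rw [← Finset.sum_filter, Finset.filter_univ_mem, ← Finset.sum_mul, h.sum_F, mem_F.1 (h.y_mem (q, t))] at h1
  have h3 : ∑ m, (if m ∈ F N a b c then (0 : ℤ) else 1) = 243 := by
    have h4 : ∀ m, (if m ∈ F N a b c then (0 : ℤ) else 1) = 1 - (if m ∈ F N a b c then 1 else 0) := by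
      intro m
      split_ifs <;> norm_num
    simp only [h4, Finset.sum_sub_distrib, Finset.sum_boole, Finset.filter_univ_mem, h.card_F]
    simp [h.card]
  rw [h3] at h1
  norm_num at h1

/-- the linear code of a framed two-graph. -/
def code (h : IsWord N a b c y w) (m0 : I) (hm0 : m0 ∉ F N a b c) : Submodule (ZMod 3) (Fin 11 → ZMod 3) where
  carrier := {v | ∃ m ∉ F N a b c, w m = w m0 + v}
  zero_mem' := ⟨m0, hm0, by rw [add_zero]⟩
  add_mem' := by
    rintro v v' ⟨m, hm, e⟩ ⟨m', hm', e'⟩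
    obtain ⟨m'', hm'', e''⟩ := h.closed hm hm0 hm'
    exact ⟨m'', hm'', by rw [e'', e, e']; abel⟩
  smul_mem' := by
    rintro x v ⟨m, hm, e⟩
    have hx : x = 0 ∨ x = 1 ∨ x = 2 := by
      revert x
      decide
    rcases hx with rfl | rfl | rfl
    · exact ⟨m0, hm0, by rw [zero_smul, add_zero]⟩
    · exact ⟨m, hm, by rw [one_smul, e]⟩
    · obtain ⟨m'', hm'', e''⟩ := h.closed hm hm0 hm
      refine ⟨m'', hm'', ?_⟩
      rw [e'', e, two_smul]
      abel

theorem mem_code (h : IsWord N a b c y w) (m0 : I) (hm0 : m0 ∉ F N a b c) {v : Fin 11 → ZMod 3} :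
    v ∈ code h m0 hm0 ↔ ∃ m ∉ F N a b c, w m = w m0 + v := Iff.rfl

theorem card_code (h : IsWord N a b c y w) (m0 : I) (hm0 : m0 ∉ F N a b c) : Nat.card (code h m0 hm0) = 243 := by
  have e : {m // m ∉ F N a b c} ≃ code h m0 hm0 := by
    refine Equiv.ofBijective (fun m => ⟨w m - w m0, ⟨m, m.2, by abel⟩⟩) ⟨?_, ?_⟩
    · intro m m' hmm
      have h1 : w m - w m0 = w m' - w m0 := congrArg Subtype.val hmm
      exact Subtype.ext (h.word_inj m.2 m'.2 (sub_left_injective h1))
    · rintro ⟨v, m, hm, e⟩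
      refine ⟨⟨m, hm⟩, Subtype.ext ?_⟩
      show w m - w m0 = v
      rw [e]
      abel
  rw [← Nat.card_congr e, Nat.card_eq_fintype_card, Fintype.card_subtype_compl, h.card]
  rw [Fintype.card_coe, h.card_F]

theorem agree_eq (u v : Fin 11 → ZMod 3) : agree (u + v) u + wt v = 11 := by
  unfold agree wt
  have h1 : (Finset.univ.filter fun k => (u + v) k = u k) = Finset.univ.filter fun k => v k = 0 := by
    ext k
    simp
  rw [h1]
  have h2 := Finset.card_filter_add_card_filter_not (s := (Finset.univ : Finset (Fin 11))) (fun k => v k = 0)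
  rw [h2]
  simp

theorem wt_code (h : IsWord N a b c y w) (m0 : I) (hm0 : m0 ∉ F N a b c) :
    ∀ v ∈ code h m0 hm0, v ≠ 0 → wt v = 6 ∨ wt v = 9 := by
  rintro v ⟨m, hm, e⟩ hv
  have h1 := agree_eq (w m0) v
  rw [← e] at h1
  have hne : m ≠ m0 := by
    rintro rfl
    apply hv
    have : w m + v = w m + 0 := by rw [← e, add_zero]
    exact add_left_cancel this
  rcases h.agree_cases hm hm0 hne with h2 | h2 <;> omega

/-- Every framed two-graph is isomorphic to the model. -/
theorem exists_model (h : IsWord N a b c y w) {i0 : I} (hi0 : i0 ∈ F N a b c) :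
    ∃ Φ : I ≃ Pt, (∀ i i', N i i' = N0 (Φ i) (Φ i')) ∧ Φ i0 = base := by
  classical
  obtain ⟨⟨q0, t0⟩, rfl⟩ := (h.mem_range i0).2 hi0
  obtain ⟨m0, hm0, hw0⟩ := exists_word h q0 t0
  obtain ⟨m1, hm1, hw1⟩ := exists_word h q0 (t0 + 1)
  obtain ⟨θ, ε, hε, hθ0, hcode⟩ := classify (code h m0 hm0) (card_code h m0 hm0) (wt_code h m0 hm0) q0
    ⟨w m1 - w m0, ⟨m1, hm1, by abel⟩, by rw [Pi.sub_apply, hw0, hw1, add_sub_cancel_left]; decide⟩
  have hεε : ∀ j, ε j * ε j = 1 := fun j => mul_self_eq_one (hε j)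
  -- the map
  have hex : ∀ i, ∃ z : Pt, (∀ k t, i = y (k, t) → z = Sum.inl (θ.symm k, ε (θ.symm k) * (t - w m0 k))) ∧
      (i ∉ F N a b c → z = Sum.inr fun r => ε (Sum.inl (Sum.inl r)) * (w i - w m0) (θ (Sum.inl (Sum.inl r)))) := by
    intro i
    by_cases hi : i ∈ F N a b c
    · obtain ⟨⟨k, t⟩, rfl⟩ := (h.mem_range i).2 hi
      refine ⟨Sum.inl (θ.symm k, ε (θ.symm k) * (t - w m0 k)), ?_, fun h1 => absurd hi h1⟩
      intro k' t' e
      have := h.inj e
      rw [Prod.mk.injEq] at this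
      rw [this.1, this.2]
    · refine ⟨_, ?_, fun _ => rfl⟩
      intro k t e
      exact absurd (e ▸ h.y_mem (k, t)) hi
  choose Φ hΦ1 hΦ2 using hex
  have hΦy : ∀ k t, Φ (y (k, t)) = Sum.inl (θ.symm k, ε (θ.symm k) * (t - w m0 k)) :=
    fun k t => hΦ1 _ k t rfl
  have hcode' : ∀ m ∉ F N a b c, ∀ j, enc (fun r => ε (Sum.inl (Sum.inl r)) * (w m - w m0) (θ (Sum.inl (Sum.inl r)))) j
      = ε j * (w m - w m0) (θ j) := by
    intro m hm j
    exact (hcode (w m - w m0) ⟨m, hm, by abel⟩ j).symm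
  have hcancel : ∀ j (u v : ZMod 3), ε j * u = ε j * v ↔ u = v := by
    intro j u v
    constructor
    · intro e
      have : ε j * (ε j * u) = ε j * (ε j * v) := by rw [e]
      rw [← mul_assoc, ← mul_assoc, hεε, one_mul, one_mul] at this
      exact this
    · rintro rfl
      rfl
  have gram : ∀ i i', N i i' = N0 (Φ i) (Φ i') := by
    have hFm : ∀ k t m, m ∉ F N a b c → N (y (k, t)) m = N0 (Φ (y (k, t))) (Φ m) := by
      intro k t m hm
      rw [hΦy, hΦ2 m hm, h.word m hm]
      unfold N0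
      simp only
      rw [hcode' m hm, Equiv.apply_symm_apply, Pi.sub_apply]
      congr 1
      rw [hcancel, sub_left_inj]
    intro i i'
    by_cases hi : i ∈ F N a b c
    · obtain ⟨⟨k, t⟩, rfl⟩ := (h.mem_range i).2 hi
      by_cases hi' : i' ∈ F N a b c
      · obtain ⟨⟨k', t'⟩, rfl⟩ := (h.mem_range i').2 hi'
        rw [hΦy, hΦy, h.gram]
        unfold N0
        simp only
        have e1 : ((k, t) : Fin 11 × ZMod 3) = (k', t') ↔
            ((θ.symm k, ε (θ.symm k) * (t - w m0 k)) : J × ZMod 3) = (θ.symm k', ε (θ.symm k') * (t' - w m0 k')) := by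
          rw [Prod.mk.injEq, Prod.mk.injEq, θ.symm.injective.eq_iff]
          constructor
          · rintro ⟨rfl, rfl⟩
            exact ⟨rfl, rfl⟩
          · rintro ⟨rfl, e⟩
            rw [hcancel, sub_left_inj] at e
            exact ⟨rfl, e⟩
        have e2 : k = k' ↔ θ.symm k = θ.symm k' := θ.symm.injective.eq_iff.symm
        by_cases c1 : ((k, t) : Fin 11 × ZMod 3) = (k', t')
        · rw [if_pos c1, if_pos (e1.1 c1)]
        · rw [if_neg c1, if_neg (fun e => c1 (e1.2 e))]
          by_cases c2 : k = k'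
          · rw [if_pos c2, if_pos (e2.1 c2)]
          · rw [if_neg c2, if_neg (fun e => c2 (e2.2 e))]
      · exact hFm k t i' hi'
    · by_cases hi' : i' ∈ F N a b c
      · obtain ⟨⟨k, t⟩, rfl⟩ := (h.mem_range i').2 hi'
        rw [h.symm, hFm k t i hi, hΦy, hΦ2 i hi]
        rfl
      · have h1 := h.agree_formula hi hi'
        rw [hΦ2 i hi, hΦ2 i' hi']
        show N i i' = (2 * (agreeJ _ _ : ℤ) - 7) / 3
        have h2 : agreeJ (enc fun r => ε (Sum.inl (Sum.inl r)) * (w i - w m0) (θ (Sum.inl (Sum.inl r))))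
            (enc fun r => ε (Sum.inl (Sum.inl r)) * (w i' - w m0) (θ (Sum.inl (Sum.inl r)))) =
            agree (w i) (w i') := by
          unfold agreeJ agree
          rw [← Finset.card_map θ.toEmbedding]
          congr 1
          ext k
          simp only [Finset.mem_map, Finset.mem_filter, Finset.mem_univ, true_and, Equiv.toEmbedding_apply]
          constructor
          · rintro ⟨j, hj, rfl⟩
            rw [hcode' i hi, hcode' i' hi', hcancel, Pi.sub_apply, Pi.sub_apply, sub_left_inj] at hj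
            exact hj
          · intro hk
            refine ⟨θ.symm k, ?_, Equiv.apply_symm_apply _ _⟩
            rw [hcode' i hi, hcode' i' hi', hcancel, Pi.sub_apply, Pi.sub_apply, sub_left_inj,
              Equiv.apply_symm_apply]
            exact hk
        rw [h2, ← h1]
        omega
  have hinj : Function.Injective Φ := by
    intro i i' e
    by_contra hne
    have h1 := gram i i'
    rw [e, ← gram i' i', h.diag] at h1
    rcases h.off i i' hne with h2 | h2 <;> rw [h2] at h1 <;> norm_num at h1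
  have hbij : Function.Bijective Φ := by
    rw [Fintype.bijective_iff_injective_and_card]
    exact ⟨hinj, by rw [h.card, card_Pt]⟩
  refine ⟨Equiv.ofBijective Φ hbij, gram, ?_⟩
  show Φ (y (q0, t0)) = base
  rw [hΦy]
  unfold base
  congr 2
  · rw [Equiv.symm_apply_eq, hθ0]
  · rw [hw0, sub_self, mul_zero]

end Cfsg.Agent.McLGraph.Model
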