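import Cfsg.Agent.McLGraph.Unique

set_option autoImplicit false

/-!
Patterns of the 275 vertices of the standard McLaughlin graph with respect to 17 base vertices.
-/

namespace Cfsg.Agent.McLGraph.Pattern

open Cfsg.Agent.McLGraph.Classify Cfsg.Agent.McLGraph.Model

/-- the eleven coordinates in order. -/
def coord : ℕ → J
  | 0 => Sum.inl (Sum.inl none)
  | 1 => Sum.inl (Sum.inl (some 0))
  | 2 => Sum.inl (Sum.inl (some 1))
  | 3 => Sum.inl (Sum.inl (some 2))
  | 4 => Sum.inl (Sum.inl (some 3))
  | 5 => Sum.inl (Sum.inr none)
  | 6 => Sum.inl (Sum.inr (some 0))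
  | 7 => Sum.inl (Sum.inr (some 1))
  | 8 => Sum.inl (Sum.inr (some 2))
  | 9 => Sum.inl (Sum.inr (some 3))
  | _ => Sum.inr ()

/-- the message with given base three digits. -/
def msg (n : ℕ) : R → ZMod 3
  | none => (n : ZMod 3)
  | some 0 => ((n / 3 : ℕ) : ZMod 3)
  | some 1 => ((n / 9 : ℕ) : ZMod 3)
  | some 2 => ((n / 27 : ℕ) : ZMod 3)
  | some 3 => ((n / 81 : ℕ) : ZMod 3)

/-- enumeration of the points. -/
def pt (n : ℕ) : Pt := if n < 33 then Sum.inl (coord (n / 3), ((n % 3 : ℕ) : ZMod 3)) else Sum.inr (msg (n - 33))

/-- relation code of two vertices. -/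
def rel (b x : Pt) : ℕ := if b = x then 2 else if N0 b x * N0 base b * N0 base x = -1 then 1 else 0

/-- the base. -/
def bs : List ℕ := [1, 2, 33, 3, 6, 9, 121, 4, 83, 7, 70, 58, 25, 216, 36, 15, 27]

/-- the pattern of a point. -/
def pat (x : Pt) : ℕ := bs.foldr (fun b acc => rel (pt b) x + 4 * acc) 0

/-- the patterns of the points `1, …, 275`. -/
def pats : List ℕ := [
  5385831750, 5391013193, 336609413, 98389, 339759189, 67375621, 337117461, 272957717, 4200453, 336659477,
  335545365, 72417285, 335548437, 268435477, 2421227525, 1140854805, 1409286165, 5, 335544341, 340856853,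
  340787205, 67108885, 268505109, 352387077, 373297173, 17825813, 8862629893, 4631560213, 4362080277,
  336658437, 67112981, 272629781, 22364192, 1359021396, 1409287505, 5922623552, 4631577876, 285230353,
  5373186112, 268502292, 4564452625, 5441081600, 4630844500, 4461649, 4317053248, 1426342932, 5704537105,
  1095848256, 268764180, 286589953, 5391008000, 268436564, 4648338513, 1078264128, 335561732, 336614417,
  4316287296, 5460984852, 1409291281, 5453992960, 285278548, 4567601489, 1096090688, 272650516, 290472193,
  4367668288, 5704253716, 1073746193, 273761536, 1076105300, 1346637905, 5453710656, 4580458500, 340021249,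
  5453661520, 262148, 4312010769, 5386880256, 4294971476, 16781377, 4300539200, 1409306628, 5435969553,
  1095058752, 16777220, 268435457, 5452874752, 4311744852, 272699729, 4313121856, 1342193940, 5722099985,
  1145328704, 268501252, 273678609, 5436884224, 272957508, 4295233617, 1090585920, 17125380, 272912385,
  4317005120, 5368975380, 1090781185, 22365440, 1140854868, 1090523217, 5373236560, 4630532116, 273698817,
  5726618944, 286326788, 4363128833, 1090801664, 66900, 290522449, 4299427904, 5704271124, 1414546705,
  5452877888, 286336260, 4631627025, 5385507072, 4312073300, 272958529, 5386535232, 274023428, 4380181505,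
  4215104, 1141179396, 1074005009, 4568994048, 1409352788, 5436871761, 1095045440, 353453060, 340804609,
  5389963600, 4363125780, 17892353, 4313072640, 1077936468, 5385486673, 1074074688, 272711940, 273694977,
  5452878912, 4312858884, 4194561, 1427195136, 21299268, 4526145, 4312864080, 5436100628, 1094995969,
  5709518160, 272957444, 4300472321, 5436101904, 4362076228, 4198481, 5654250832, 16793604, 4635774977,
  290800960, 1073741828, 1158676481, 5453927424, 4568711508, 22085953, 5436085328, 340869380, 4300230929,
  289756224, 1090584852, 1347485953, 4648355072, 1090846788, 5440278609, 1090520400, 4472836, 290799617,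
  5704275280, 4295294980, 5574657, 1346651392, 4264004, 5242945, 4312073536, 5453660164, 1140871169,
  5385770320, 1114116, 4312793089, 1078218752, 339805524, 273745233, 5385818176, 4648420628, 340874497,
  4317270080, 1410401556, 5453645073, 4312809728, 5436081236, 1157960785, 5368713552, 335889412, 4636038161,
  1363165504, 17105924, 341115905, 5385765120, 85001284, 4362081361, 155517248, 1140872212, 1427129345,
  5373186368, 4631626756, 68158465, 5705581568, 272695620, 4367323473, 17105984, 1157644548, 1413501201,
  5385770064, 4294967572, 290521345, 1091585280, 4526148, 21233729, 5368710480, 4366553092, 4476929,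
  4581311808, 1090846724, 5436084225, 4585768192, 5452599380, 1145049153, 5386863952, 340803588, 4379922433,
  1346721104, 67178500, 5246977, 4295250944, 5435887956, 1077940561, 5385749568, 290537732, 4635771137,
  1090798656, 5308676, 17891585, 5654988048, 4526164, 4317319233, 273745216, 1413828612, 1146376193,
  5452617040, 4380229636, 4526081, 1359299840, 16842820, 340856897, 5385749840, 4363145220, 89149441,
  4567876944, 1140850692, 5436870673]

theorem pats_eq : (List.range 275).map (fun n => pat (pt (n + 1))) = pats := by decide +kernel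

theorem coord_surj : ∀ j : J, ∃ k : Fin 11, coord k = j := by decide +kernel

theorem msg_aux : ∀ a b c d e : ZMod 3,
    ((a.val + 3 * b.val + 9 * c.val + 27 * d.val + 81 * e.val : ℕ) : ZMod 3) = a ∧
    (((a.val + 3 * b.val + 9 * c.val + 27 * d.val + 81 * e.val) / 3 : ℕ) : ZMod 3) = b ∧
    (((a.val + 3 * b.val + 9 * c.val + 27 * d.val + 81 * e.val) / 9 : ℕ) : ZMod 3) = c ∧
    (((a.val + 3 * b.val + 9 * c.val + 27 * d.val + 81 * e.val) / 27 : ℕ) : ZMod 3) = d ∧
    (((a.val + 3 * b.val + 9 * c.val + 27 * d.val + 81 * e.val) / 81 : ℕ) : ZMod 3) = e := by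
  decide +kernel

theorem pt_surj (p : Pt) : ∃ n < 276, pt n = p := by
  rcases p with ⟨j, t⟩ | l
  · obtain ⟨k, hk⟩ := coord_surj j
    have ht : t.val < 3 := ZMod.val_lt t
    have hk' := k.isLt
    refine ⟨3 * k + t.val, by omega, ?_⟩
    unfold pt
    rw [if_pos (by omega)]
    have e1 : (3 * (k : ℕ) + t.val) / 3 = k := by omega
    have e2 : (3 * (k : ℕ) + t.val) % 3 = t.val := by omega
    rw [e1, e2, hk]
    simp
  · have h0 : (l none).val < 3 := ZMod.val_lt _
    have h1 : (l (some 0)).val < 3 := ZMod.val_lt _
    have h2 : (l (some 1)).val < 3 := ZMod.val_lt _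
    have h3 : (l (some 2)).val < 3 := ZMod.val_lt _
    have h4 : (l (some 3)).val < 3 := ZMod.val_lt _
    obtain ⟨e0, e1, e2, e3, e4⟩ := msg_aux (l none) (l (some 0)) (l (some 1)) (l (some 2)) (l (some 3))
    refine ⟨(l none).val + 3 * (l (some 0)).val + 9 * (l (some 1)).val + 27 * (l (some 2)).val
      + 81 * (l (some 3)).val + 33, by omega, ?_⟩
    unfold pt
    rw [if_neg (by omega), Nat.add_sub_cancel]
    congr 1
    funext r
    rcases r with _ | r
    · exact e0
    · fin_cases r
      · exact e1
      · exact e2
      · exact e3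
      · exact e4

theorem pt_zero : pt 0 = base := by decide +kernel

theorem pt_surj' {p : Pt} (hp : p ≠ base) : ∃ n < 275, pt (n + 1) = p := by
  obtain ⟨n, hn, h⟩ := pt_surj p
  rcases n with _ | n
  · rw [pt_zero] at h
    exact absurd h.symm hp
  · exact ⟨n, by omega, h⟩

theorem pats_length : pats.length = 275 := by decide +kernel

theorem pats_nodup : pats.Nodup := by decide +kernel

theorem pat_pt {n : ℕ} (hn : n < 275) : pat (pt (n + 1)) = pats.getD n 0 := by
  rw [← pats_eq]
  simp [List.getD_eq_getElem?_getD, hn]

/-- the patterns of the base points. -/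
theorem counts : ∀ k : Fin 17, (pats.filter fun m => m % 4 ^ (k : ℕ) = pats.getD ((bs.getD k 0) - 1) 0 % 4 ^ (k : ℕ)).length =
    [275, 112, 81, 10, 9, 8, 1, 1, 1, 1, 1, 1, 1, 1, 1, 1, 1].getD k 0 := by
  decide +kernel

end Cfsg.Agent.McLGraph.Pattern
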