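import Cfsg.Agent.McLGraph.Model

set_option autoImplicit false
set_option linter.unusedSectionVars false

/-!
Uniqueness of the strongly regular graph with parameters (275, 112, 30, 56) (the McLaughlin graph).
-/

namespace Cfsg.Agent.McLGraph.Unique

open Cfsg.Agent.McLGraph.Gram Cfsg.Agent.McLGraph.Frame Cfsg.Agent.McLGraph.Enum Cfsg.Agent.McLGraph.Word
  Cfsg.Agent.McLGraph.Classify Cfsg.Agent.McLGraph.Model

section Switch

variable {I : Type*} [Fintype I] [DecidableEq I] {N : I → I → ℤ}

theorem mul_self_sign {x : ℤ} (h : x = 1 ∨ x = -1) : x * x = 1 := by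
  rcases h with rfl | rfl <;> norm_num

theorem switch (h : IsTwoGraph N) {ε : I → ℤ} (hε : ∀ i, ε i = 1 ∨ ε i = -1) :
    IsTwoGraph (fun i j => ε i * ε j * N i j) where
  card := h.card
  diag i := by
    show ε i * ε i * N i i = 5
    rw [mul_self_sign (hε i), h.diag]
    norm_num
  off i j hij := by
    show ε i * ε j * N i j = 1 ∨ ε i * ε j * N i j = -1
    rcases hε i with h1 | h1 <;> rcases hε j with h2 | h2 <;> rcases h.off i j hij with h3 | h3 <;>
      rw [h1, h2, h3] <;> norm_num
  symm i j := by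
    show ε i * ε j * N i j = ε j * ε i * N j i
    rw [h.symm i j]
    ring
  sq i j := by
    show ∑ m, ε i * ε m * N i m * (ε j * ε m * N j m) = 60 * (ε i * ε j * N i j)
    have h1 : ∀ m, ε i * ε m * N i m * (ε j * ε m * N j m) = (ε i * ε j) * (N i m * N j m) := by
      intro m
      have := mul_self_sign (hε m)
      linear_combination (ε i * ε j * N i m * N j m) * this
    simp only [h1]
    rw [← Finset.mul_sum, h.sq]
    ring

/-- Every regular two-graph on 276 points is isomorphic to the model. -/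
theorem exists_iso_model (h : IsTwoGraph N) {i0 b c : I} (h0b : i0 ≠ b) (h0c : i0 ≠ c) (hbc : b ≠ c)
    (hneg : N i0 b * N i0 c * N b c = -1) :
    ∃ (Φ : I ≃ Pt) (η : I → ℤ), (∀ i, η i = 1 ∨ η i = -1) ∧ (∀ i i', N i i' = η i * η i' * N0 (Φ i) (Φ i')) ∧
      Φ i0 = base := by
  classical
  -- first switching : the triple becomes negative
  let ε₁ : I → ℤ := fun i => if i = b then - N i0 b else if i = c then - N i0 c else 1
  have hε₁ : ∀ i, ε₁ i = 1 ∨ ε₁ i = -1 := by
    intro i
    show (if i = b then - N i0 b else if i = c then - N i0 c else 1) = 1 ∨ _ = _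
    by_cases h1 : i = b
    · rcases h.off i0 b h0b with h2 | h2 <;> simp [ε₁, h1, h2]
    · by_cases h3 : i = c
      · rcases h.off i0 c h0c with h2 | h2 <;> simp [ε₁, h3, h2, hbc.symm]
      · simp [h1, h3]
  have g0 : ε₁ i0 = 1 := by simp [ε₁, h0b, h0c]
  have gb : ε₁ b = - N i0 b := by simp [ε₁]
  have gc : ε₁ c = - N i0 c := by simp [ε₁, hbc.symm]
  set N₁ : I → I → ℤ := fun i j => ε₁ i * ε₁ j * N i j with hN₁
  have hT₁ : IsTwoGraph N₁ := switch h hε₁
  have a1 : N₁ i0 b = -1 := by
    show ε₁ i0 * ε₁ b * N i0 b = -1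
    rw [g0, gb]
    rcases h.off i0 b h0b with h2 | h2 <;> rw [h2] <;> norm_num
  have a2 : N₁ i0 c = -1 := by
    show ε₁ i0 * ε₁ c * N i0 c = -1
    rw [g0, gc]
    rcases h.off i0 c h0c with h2 | h2 <;> rw [h2] <;> norm_num
  have a3 : N₁ b c = -1 := by
    show ε₁ b * ε₁ c * N b c = -1
    rw [gb, gc, ← hneg]
    ring
  -- second switching : the sum of the three rows becomes positive
  have hodd : ∀ i, s N₁ i0 b c i ≠ 0 := by
    intro i h1
    have h2 : Odd (s N₁ i0 b c i) := ((parity hT₁ i0 i).add_odd (parity hT₁ b i)).add_odd (parity hT₁ c i)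
    rw [h1] at h2
    exact absurd h2 (by decide)
  let ε₂ : I → ℤ := fun i => if 0 < s N₁ i0 b c i then 1 else -1
  have hε₂ : ∀ i, ε₂ i = 1 ∨ ε₂ i = -1 := by
    intro i
    by_cases h1 : 0 < s N₁ i0 b c i
    · left; exact if_pos h1
    · right; exact if_neg h1
  have s0 : s N₁ i0 b c i0 = 3 := by
    unfold s
    rw [hT₁.diag, hT₁.symm b i0, hT₁.symm c i0, a1, a2]
    norm_num
  have sb : s N₁ i0 b c b = 3 := by
    unfold s
    rw [hT₁.diag, hT₁.symm c b, a1, a3]
    norm_num
  have sc : s N₁ i0 b c c = 3 := by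
    unfold s
    rw [hT₁.diag, a2, a3]
    norm_num
  have k0 : ε₂ i0 = 1 := if_pos (by rw [s0]; norm_num)
  have kb : ε₂ b = 1 := if_pos (by rw [sb]; norm_num)
  have kc : ε₂ c = 1 := if_pos (by rw [sc]; norm_num)
  set N₂ : I → I → ℤ := fun i j => ε₂ i * ε₂ j * N₁ i j with hN₂
  have hT₂ : IsTwoGraph N₂ := switch hT₁ hε₂
  have hF : IsFramed N₂ i0 b c := by
    refine ⟨hT₂, ?_, ?_, ?_, ?_⟩
    · show ε₂ i0 * ε₂ b * N₁ i0 b = -1
      rw [k0, kb, a1]
      norm_num
    · show ε₂ i0 * ε₂ c * N₁ i0 c = -1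
      rw [k0, kc, a2]
      norm_num
    · show ε₂ b * ε₂ c * N₁ b c = -1
      rw [kb, kc, a3]
      norm_num
    · intro i
      have h1 : s N₂ i0 b c i = ε₂ i * s N₁ i0 b c i := by
        show ε₂ i0 * ε₂ i * N₁ i0 i + ε₂ b * ε₂ i * N₁ b i + ε₂ c * ε₂ i * N₁ c i = _
        rw [k0, kb, kc]
        unfold s
        ring
      rw [h1]
      by_cases h2 : 0 < s N₁ i0 b c i
      · rw [show ε₂ i = 1 from if_pos h2, one_mul]
        exact h2
      · rw [show ε₂ i = -1 from if_neg h2]
        have h3 := hodd i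
        have h4 : s N₁ i0 b c i < 0 := lt_of_le_of_ne (not_lt.1 h2) h3
        linarith
  obtain ⟨y, hy⟩ := exists_isEnum hF
  obtain ⟨w, hw⟩ := exists_isWord hy
  obtain ⟨Φ, hΦ, hΦ0⟩ := exists_model hw (i0 := i0) (mem_F.2 hF.s_a)
  refine ⟨Φ, fun i => ε₁ i * ε₂ i, ?_, ?_, hΦ0⟩
  · intro i
    rcases hε₁ i with h1 | h1 <;> rcases hε₂ i with h2 | h2 <;> simp only [h1, h2] <;> norm_num
  · intro i i'
    rw [← hΦ i i']
    show N i i' = (ε₁ i * ε₂ i) * (ε₁ i' * ε₂ i') * (ε₂ i * ε₂ i' * (ε₁ i * ε₁ i' * N i i'))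
    have e1 := mul_self_sign (hε₁ i)
    have e2 := mul_self_sign (hε₂ i)
    have e3 := mul_self_sign (hε₁ i')
    have e4 := mul_self_sign (hε₂ i')
    have : (ε₁ i * ε₂ i) * (ε₁ i' * ε₂ i') * (ε₂ i * ε₂ i' * (ε₁ i * ε₁ i' * N i i')) =
        (ε₁ i * ε₁ i) * (ε₂ i * ε₂ i) * (ε₁ i' * ε₁ i') * (ε₂ i' * ε₂ i') * N i i' := by ring
    rw [this, e1, e2, e3, e4]
    ring

end Switch

/-! ### The standard graph -/

/-- the standard McLaughlin graph. -/
def stdGraph : SimpleGraph {p : Pt // p ≠ base} where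
  Adj p q := p ≠ q ∧ N0 p q * N0 base p * N0 base q = -1
  symm := ⟨fun p q ⟨h1, h2⟩ => ⟨h1.symm, by
    have e : N0 q.1 p.1 = N0 p.1 q.1 := by
      rcases p with ⟨(p | p), hp⟩ <;> rcases q with ⟨(q | q), hq⟩
      · simp only [N0]
        congr 1
        · exact propext eq_comm
        · congr 1
          exact propext eq_comm
      · rfl
      · rfl
      · simp only [N0]
        have : agreeJ (enc q) (enc p) = agreeJ (enc p) (enc q) := by
          unfold agreeJ
          congr 1
          ext j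
          simp only [Finset.mem_filter, Finset.mem_univ, true_and]
          exact eq_comm
        rw [this]
    rw [e, ← h2]
    ring⟩⟩
  loopless := ⟨fun p h => h.1 rfl⟩

theorem stdGraph_adj (p q : {p : Pt // p ≠ base}) :
    stdGraph.Adj p q ↔ p ≠ q ∧ N0 p q * N0 base p * N0 base q = -1 := Iff.rfl

section Graph

variable {V : Type*} [Fintype V] [DecidableEq V] (Γ : SimpleGraph V) [DecidableRel Γ.Adj]

/-- the Gram matrix of a graph with an isolated vertex added. -/
def gramOf : Option V → Option V → ℤ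
  | none, none => 5
  | none, some _ => 1
  | some _, none => 1
  | some a, some b => if a = b then 5 else if Γ.Adj a b then -1 else 1

theorem gramOf_some (a b : V) : gramOf Γ (some a) (some b) =
    1 + 4 * (1 : Matrix V V ℤ) a b - 2 * Γ.adjMatrix ℤ a b := by
  unfold gramOf
  simp only
  by_cases h : a = b
  · subst h
    simp
  · rw [if_neg h, Matrix.one_apply_ne h, SimpleGraph.adjMatrix_apply]
    split_ifs <;> norm_num

theorem isTwoGraph (h : Γ.IsSRGWith 275 112 30 56) : IsTwoGraph (gramOf Γ) := by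
  have hrow : ∀ a, ∑ v, gramOf Γ (some a) (some v) = 55 := by
    intro a
    simp only [gramOf_some, Finset.sum_sub_distrib, Finset.sum_add_distrib, ← Finset.mul_sum]
    have h1 : ∑ v, Γ.adjMatrix ℤ a v = 112 := by
      simp only [SimpleGraph.adjMatrix_apply, Finset.sum_boole]
      rw [← SimpleGraph.neighborFinset_eq_filter, SimpleGraph.card_neighborFinset_eq_degree, h.regular.degree_eq a]
      norm_num
    have h2 : ∑ v, (1 : Matrix V V ℤ) a v = 1 := by
      simp [Matrix.one_apply]
    rw [h1, h2, Finset.sum_const, Finset.card_univ, h.card]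
    norm_num
  refine ⟨?_, ?_, ?_, ?_, ?_⟩
  · rw [Fintype.card_option, h.card]
  · rintro (_ | a)
    · rfl
    · simp [gramOf]
  · rintro (_ | a) (_ | b) hab
    · exact absurd rfl hab
    · left; rfl
    · left; rfl
    · have : a ≠ b := fun e => hab (by rw [e])
      unfold gramOf
      simp only
      rw [if_neg this]
      split_ifs
      · right; rfl
      · left; rfl
  · rintro (_ | a) (_ | b)
    · rfl
    · rfl
    · rfl
    · unfold gramOf
      simp only
      by_cases hab : a = b
      · rw [if_pos hab, if_pos hab.symm]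
      · rw [if_neg hab, if_neg (Ne.symm hab)]
        simp only [Γ.adj_comm a b]
  · have hss : ∀ a b, ∑ v, gramOf Γ (some a) (some v) * gramOf Γ (some b) (some v) =
        60 * gramOf Γ (some a) (some b) - 1 := by
      intro a b
      have hsq : ∑ v, Γ.adjMatrix ℤ a v * Γ.adjMatrix ℤ b v =
          56 + 56 * (1 : Matrix V V ℤ) a b - 26 * Γ.adjMatrix ℤ a b := by
        have h1 := congrFun (congrFun (h.matrix_eq (α := ℤ)) a) b
        rw [pow_two, Matrix.mul_apply] at h1
        have h2 : ∑ v, Γ.adjMatrix ℤ a v * Γ.adjMatrix ℤ b v = ∑ v, Γ.adjMatrix ℤ a v * Γ.adjMatrix ℤ v b := by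
          refine Finset.sum_congr rfl fun v _ => ?_
          simp only [SimpleGraph.adjMatrix_apply, Γ.adj_comm v b]
        rw [h2, h1, Matrix.add_apply, Matrix.add_apply, Matrix.smul_apply, Matrix.smul_apply, Matrix.smul_apply]
        simp only [SimpleGraph.adjMatrix_apply, SimpleGraph.compl_adj]
        by_cases hab : a = b
        · subst hab
          simp
        · rw [Matrix.one_apply_ne hab]
          by_cases hadj : Γ.Adj a b <;> simp [hadj, hab]
      have hone : ∀ a, ∑ v, (1 : Matrix V V ℤ) a v = 1 := by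
        intro a
        simp [Matrix.one_apply]
      have hA : ∀ a, ∑ v, Γ.adjMatrix ℤ a v = 112 := by
        intro a
        simp only [SimpleGraph.adjMatrix_apply, Finset.sum_boole]
        rw [← SimpleGraph.neighborFinset_eq_filter, SimpleGraph.card_neighborFinset_eq_degree,
          h.regular.degree_eq a]
        norm_num
      have h11 : ∑ v, (1 : Matrix V V ℤ) a v * (1 : Matrix V V ℤ) b v = (1 : Matrix V V ℤ) a b := by
        simp [Matrix.one_apply]
      have h1A : ∑ v, (1 : Matrix V V ℤ) a v * Γ.adjMatrix ℤ b v = Γ.adjMatrix ℤ a b := by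
        have h4 : ∀ v, (1 : Matrix V V ℤ) a v * Γ.adjMatrix ℤ b v = if a = v then Γ.adjMatrix ℤ b v else 0 := by
          intro v
          rw [Matrix.one_apply]
          split_ifs <;> ring
        rw [Finset.sum_congr rfl fun v _ => h4 v, Finset.sum_ite_eq, if_pos (Finset.mem_univ a)]
        simp only [SimpleGraph.adjMatrix_apply, Γ.adj_comm b a]
      have hA1 : ∑ v, Γ.adjMatrix ℤ a v * (1 : Matrix V V ℤ) b v = Γ.adjMatrix ℤ a b := by
        simp [Matrix.one_apply]
      have h3 : ∀ v, gramOf Γ (some a) (some v) * gramOf Γ (some b) (some v) =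
          1 + 4 * (1 : Matrix V V ℤ) b v - 2 * Γ.adjMatrix ℤ b v + 4 * (1 : Matrix V V ℤ) a v
          - 2 * Γ.adjMatrix ℤ a v + 16 * ((1 : Matrix V V ℤ) a v * (1 : Matrix V V ℤ) b v)
          - 8 * ((1 : Matrix V V ℤ) a v * Γ.adjMatrix ℤ b v) - 8 * (Γ.adjMatrix ℤ a v * (1 : Matrix V V ℤ) b v)
          + 4 * (Γ.adjMatrix ℤ a v * Γ.adjMatrix ℤ b v) := by
        intro v
        rw [gramOf_some, gramOf_some]
        ring
      simp only [h3, Finset.sum_sub_distrib, Finset.sum_add_distrib, ← Finset.mul_sum]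
      rw [hsq, hone, hone, hA, hA, h11, h1A, hA1, Finset.sum_const, Finset.card_univ, h.card, gramOf_some]
      simp only [nsmul_eq_mul, Nat.cast_ofNat]
      ring
    rintro (_ | a) (_ | b)
    · rw [Fintype.sum_option]
      simp [gramOf, h.card]
    · rw [Fintype.sum_option]
      show 5 * 1 + ∑ v, 1 * gramOf Γ (some b) (some v) = 60 * 1
      simp only [one_mul]
      rw [hrow b]
      norm_num
    · rw [Fintype.sum_option]
      show 1 * 5 + ∑ v, gramOf Γ (some a) (some v) * 1 = 60 * 1
      simp only [mul_one]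
      rw [hrow a]
      norm_num
    · rw [Fintype.sum_option, hss]
      show 1 * 1 + _ = _
      ring

/-- Every srg(275,112,30,56) is isomorphic to the standard one. -/
theorem nonempty_iso_std (h : Γ.IsSRGWith 275 112 30 56) : Nonempty (Γ ≃g stdGraph) := by
  have hT := isTwoGraph Γ h
  have hV : 0 < Fintype.card V := by rw [h.card]; norm_num
  obtain ⟨b⟩ := Fintype.card_pos_iff.1 hV
  have hb : 0 < Γ.degree b := by rw [h.regular.degree_eq b]; norm_num
  obtain ⟨c, hc⟩ := (Γ.degree_pos_iff_exists_adj b).1 hb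
  have hbc : b ≠ c := hc.ne
  obtain ⟨Φ, η, hη, hΦ, hΦ0⟩ := exists_iso_model hT (i0 := none) (b := some b) (c := some c) (by simp) (by simp)
    (by simpa using hbc) (by
      show 1 * 1 * gramOf Γ (some b) (some c) = -1
      unfold gramOf
      simp only
      rw [if_neg hbc, if_pos hc]
      norm_num)
  have hne : ∀ v : V, Φ (some v) ≠ base := by
    intro v h1
    rw [← hΦ0] at h1
    exact absurd (Φ.injective h1) (by simp)
  have hkey : ∀ u v : V, gramOf Γ (some u) (some v) =
      N0 (Φ (some u)) (Φ (some v)) * N0 base (Φ (some u)) * N0 base (Φ (some v)) := by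
    intro u v
    have h1 := hΦ none (some u)
    have h2 := hΦ none (some v)
    have h3 := hΦ (some u) (some v)
    rw [hΦ0] at h1 h2
    have e1 : gramOf Γ none (some u) = 1 := rfl
    have e2 : gramOf Γ none (some v) = 1 := rfl
    rw [e1] at h1
    rw [e2] at h2
    rw [h3]
    have g0 := mul_self_sign (hη none)
    have gu := mul_self_sign (hη (some u))
    have gv := mul_self_sign (hη (some v))
    have f1 : N0 base (Φ (some u)) = η none * η (some u) := by
      linear_combination (-(N0 base (Φ (some u)))) * (g0 * 1) - (η none * η none * N0 base (Φ (some u))) * gu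
        - (η none * η (some u)) * h1
    have f2 : N0 base (Φ (some v)) = η none * η (some v) := by
      linear_combination (-(N0 base (Φ (some v)))) * (g0 * 1) - (η none * η none * N0 base (Φ (some v))) * gv
        - (η none * η (some v)) * h2
    rw [f1, f2]
    linear_combination (-(η (some u) * η (some v) * N0 (Φ (some u)) (Φ (some v)))) * g0
  let e : V ≃ {p : Pt // p ≠ base} :=
    Equiv.ofBijective (fun v => ⟨Φ (some v), hne v⟩) (by
      constructor
      · intro u v huv
        have := Φ.injective (congrArg Subtype.val huv)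
        simpa using this
      · rintro ⟨p, hp⟩
        obtain ⟨z, hz⟩ := Φ.surjective p
        rcases z with _ | v
        · rw [hΦ0] at hz
          exact absurd hz.symm hp
        · exact ⟨v, Subtype.ext hz⟩)
  refine ⟨⟨e, ?_⟩⟩
  intro u v
  rw [stdGraph_adj]
  show (e u ≠ e v ∧ N0 (Φ (some u)) (Φ (some v)) * N0 base (Φ (some u)) * N0 base (Φ (some v)) = -1) ↔ _
  rw [← hkey, e.injective.ne_iff]
  unfold gramOf
  simp only
  constructor
  · rintro ⟨h1, h2⟩
    rw [if_neg h1] at h2
    by_contra h3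
    rw [if_neg h3] at h2
    norm_num at h2
  · intro h1
    exact ⟨h1.ne, by rw [if_neg h1.ne, if_pos h1]⟩

end Graph

/-- Uniqueness of the McLaughlin graph. -/
theorem unique {V W : Type*} [Fintype V] [Fintype W] {Γ : SimpleGraph V} {Δ : SimpleGraph W}
    [DecidableRel Γ.Adj] [DecidableRel Δ.Adj] (hΓ : Γ.IsSRGWith 275 112 30 56) (hΔ : Δ.IsSRGWith 275 112 30 56) :
    Nonempty (Γ ≃g Δ) := by
  classical
  obtain ⟨e⟩ := nonempty_iso_std Γ hΓ
  obtain ⟨f⟩ := nonempty_iso_std Δ hΔ
  exact ⟨e.trans f.symm⟩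

end Cfsg.Agent.McLGraph.Unique
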