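import Cfsg.Agent.McLGraph.Enum

set_option autoImplicit false
set_option linter.unusedSectionVars false

/-!
The 243 remaining vectors as ternary words of length 11.
-/

namespace Cfsg.Agent.McLGraph.Word

open Cfsg.Agent.McLGraph.Gram Cfsg.Agent.McLGraph.Frame Cfsg.Agent.McLGraph.Enum

variable {I : Type*} [Fintype I] [DecidableEq I]

/-- Enumeration of the 33 vectors together with the words of the other ones. -/
structure IsWord (N : I → I → ℤ) (a b c : I) (y : Fin 11 × ZMod 3 → I) (w : I → Fin 11 → ZMod 3) : Prop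
    extends IsEnum N a b c y where
  word : ∀ m, m ∉ F N a b c → ∀ k t, N (y (k, t)) m = if t = w m k then -1 else 1

theorem exists_isWord {N : I → I → ℤ} {a b c : I} {y : Fin 11 × ZMod 3 → I} (h : IsEnum N a b c y) :
    ∃ w, IsWord N a b c y w := by
  classical
  have key : ∀ m, ∀ k, ∃ u : ZMod 3, m ∉ F N a b c → ∀ t, N (y (k, t)) m = if t = u then -1 else 1 := by
    intro m k
    by_cases hm : m ∈ F N a b c
    · exact ⟨0, fun h1 => absurd hm h1⟩
    · have hne : ∀ t, N (y (k, t)) m = 1 ∨ N (y (k, t)) m = -1 := by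
        intro t
        apply h.off
        intro h1
        exact hm ((h.mem_range m).1 ⟨_, h1⟩)
      have hs := h.sum_row k m
      rw [h.s_eq_one hm] at hs
      have hforall : ∀ P : ZMod 3 → Prop, P 0 → P 1 → P 2 → ∀ t, P t := by
        intro P h0 h1 h2 t
        fin_cases t
        · exact h0
        · exact h1
        · exact h2
      have d01 : (0 : ZMod 3) ≠ 1 := by decide
      have d02 : (0 : ZMod 3) ≠ 2 := by decide
      have d12 : (1 : ZMod 3) ≠ 2 := by decide
      rcases hne 0 with h0 | h0 <;> rcases hne 1 with h1 | h1 <;> rcases hne 2 with h2 | h2 <;>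
        rw [h0, h1, h2] at hs <;> norm_num at hs
      · refine ⟨2, fun _ => hforall _ ?_ ?_ ?_⟩
        · rw [h0, if_neg d02]
        · rw [h1, if_neg d12]
        · rw [h2, if_pos rfl]
      · refine ⟨1, fun _ => hforall _ ?_ ?_ ?_⟩
        · rw [h0, if_neg d01]
        · rw [h1, if_pos rfl]
        · rw [h2, if_neg d12.symm]
      · refine ⟨0, fun _ => hforall _ ?_ ?_ ?_⟩
        · rw [h0, if_pos rfl]
        · rw [h1, if_neg d01.symm]
        · rw [h2, if_neg d02.symm]
  choose w hw using key
  exact ⟨w, h, fun m hm k t => hw m k hm t⟩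

/-- number of agreements of two words. -/
def agree (u v : Fin 11 → ZMod 3) : ℕ := (Finset.univ.filter fun k => u k = v k).card

theorem sum_ite_agree (u v : Fin 11 → ZMod 3) :
    ∑ k, (if u k = v k then (-1 : ℤ) else 1) = 11 - 2 * (agree u v : ℤ) := by
  have h1 : ∀ k, (if u k = v k then (-1 : ℤ) else 1) = 1 - 2 * (if u k = v k then 1 else 0) := by
    intro k
    split_ifs <;> norm_num
  simp only [h1, Finset.sum_sub_distrib, ← Finset.mul_sum, Finset.sum_boole]
  simp [agree]

namespace IsWord

variable {N : I → I → ℤ} {a b c : I} {y : Fin 11 × ZMod 3 → I} {w : I → Fin 11 → ZMod 3}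
  (h : IsWord N a b c y w)
include h

theorem y_mem (p : Fin 11 × ZMod 3) : y p ∈ F N a b c := (h.mem_range _).1 ⟨p, rfl⟩

/-- values at the 33 points of the vector attached to a word. -/
theorem sum_word_F (e : Fin 11 → ZMod 3) (k : Fin 11) (t : ZMod 3) :
    ∑ q, N (y (q, e q)) (y (k, t)) = if t = e k then 15 else 9 := by
  have h1 : ∀ q, N (y (q, e q)) (y (k, t)) = 1 + (if q = k then (if t = e k then 4 else -2) else 0) := by
    intro q
    rw [h.gram]
    by_cases hq : q = k
    · subst hq
      by_cases ht : t = e q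
      · subst ht
        simp
      · have : ((q, e q) : Fin 11 × ZMod 3) ≠ (q, t) := by
          intro h2
          exact ht (Prod.ext_iff.1 h2).2.symm
        rw [if_neg this]
        simp [ht]
    · have : ((q, e q) : Fin 11 × ZMod 3) ≠ (k, t) := by
        intro h2
        exact hq (Prod.ext_iff.1 h2).1
      rw [if_neg this, if_neg hq, if_neg hq]
      simp
  simp only [h1, Finset.sum_add_distrib, Finset.sum_ite_eq', Finset.mem_univ, if_true]
  simp only [Finset.sum_const, Finset.card_univ, Fintype.card_fin]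
  split_ifs <;> norm_num

/-- values at the other points of the vector attached to a word. -/
theorem sum_word_nF (e : Fin 11 → ZMod 3) {m : I} (hm : m ∉ F N a b c) :
    ∑ q, N (y (q, e q)) m = 11 - 2 * (agree e (w m) : ℤ) := by
  rw [← sum_ite_agree]
  refine Finset.sum_congr rfl fun q _ => ?_
  rw [h.word m hm]

theorem mem_word (e : Fin 11 → ZMod 3) :
    (fun x => 4 * s N a b c x - ∑ q, N (y (q, e q)) x) ∈ V N := by
  have h1 : (fun x => ∑ q, N (y (q, e q)) x) ∈ V N := by
    have h2 := (V N).sum_mem (t := Finset.univ) (f := fun q : Fin 11 => N (y (q, e q)))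
      (fun q _ => h.row_mem _)
    convert h2 using 1
    funext x
    rw [Finset.sum_apply]
  have h2 := (V N).sub_mem ((V N).smul_mem 4 h.s_mem) h1
  exact h2

/-- a vector outside the 33 is determined by its word. -/
theorem word_formula {m : I} (hm : m ∉ F N a b c) (x : I) :
    3 * N m x = 4 * s N a b c x - ∑ q, N (y (q, w m q)) x := by
  set D : I → ℤ := fun x => 3 * N m x - (4 * s N a b c x - ∑ q, N (y (q, w m q)) x) with hD
  have hDV : D ∈ V N := by
    have h1 := (V N).sub_mem ((V N).smul_mem 3 (h.row_mem m)) (h.mem_word (w m))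
    exact h1
  have hDm : D m = 0 := by
    simp only [hD]
    rw [h.diag, h.s_eq_one hm, h.sum_word_nF (w m) hm]
    simp [agree]
  have hDF : ∀ k t, D (y (k, t)) = 0 := by
    intro k t
    simp only [hD]
    rw [mem_F.1 (h.y_mem (k, t)), h.sum_word_F, h.symm m, h.word m hm]
    split_ifs <;> norm_num
  have hDF' : ∀ i ∈ F N a b c, D i = 0 := by
    intro i hi
    obtain ⟨⟨k, t⟩, rfl⟩ := (h.mem_range i).2 hi
    exact hDF k t
  have hsq : ∑ x, D x ^ 2 = 0 := by
    have h1 : ∀ x, D x ^ 2 = 3 * (N m x * D x) - 4 * (N a x * D x) - 4 * (N b x * D x) - 4 * (N c x * D x)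
        + ∑ q, N (y (q, w m q)) x * D x := by
      intro x
      rw [← Finset.sum_mul]
      have : D x ^ 2 = (3 * N m x - (4 * s N a b c x - ∑ q, N (y (q, w m q)) x)) * D x := by
        rw [pow_two]
      rw [this]
      unfold s
      ring
    simp only [h1, Finset.sum_add_distrib, Finset.sum_sub_distrib, ← Finset.mul_sum]
    rw [Finset.sum_comm, hDV m, hDV a, hDV b, hDV c, hDm, hDF' a (mem_F.2 h.s_a), hDF' b (mem_F.2 h.s_b),
      hDF' c (mem_F.2 h.s_c)]
    have h2 : ∀ q, ∑ x, N (y (q, w m q)) x * D x = 0 := by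
      intro q
      rw [hDV, hDF]
      norm_num
    simp only [h2]
    simp
  have h1 := (Finset.sum_eq_zero_iff_of_nonneg (fun m _ => sq_nonneg _)).1 hsq x (Finset.mem_univ _)
  have h2 : D x = 0 := pow_eq_zero_iff (two_ne_zero) |>.1 h1
  simp only [hD] at h2
  linarith

theorem agree_formula {m m' : I} (hm : m ∉ F N a b c) (hm' : m' ∉ F N a b c) :
    3 * N m m' = 2 * (agree (w m) (w m') : ℤ) - 7 := by
  rw [h.word_formula hm m', h.s_eq_one hm', h.sum_word_nF (w m) hm']
  ring

theorem agree_cases {m m' : I} (hm : m ∉ F N a b c) (hm' : m' ∉ F N a b c) (hne : m ≠ m') :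
    agree (w m) (w m') = 5 ∨ agree (w m) (w m') = 2 := by
  have h1 := h.agree_formula hm hm'
  rcases h.off m m' hne with h2 | h2 <;> rw [h2] at h1 <;> omega

theorem word_inj {m m' : I} (hm : m ∉ F N a b c) (hm' : m' ∉ F N a b c) (hw : w m = w m') : m = m' := by
  by_contra hne
  have h1 : agree (w m) (w m') = 11 := by rw [hw]; simp [agree]
  rcases h.agree_cases hm hm' hne with h2 | h2 <;> omega

end IsWord

/-- the quadratic form: number of nonzero coordinates modulo 3. -/
def qf (v : Fin 11 → ZMod 3) : ZMod 3 := ∑ k, v k ^ 2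

theorem qf_sub (u v : Fin 11 → ZMod 3) : qf (u - v) = 11 - (agree u v : ZMod 3) := by
  unfold qf agree
  have h1 : ∀ k, (u - v) k ^ 2 = 1 - (if u k = v k then 1 else 0) := by
    intro k
    rw [Pi.sub_apply]
    by_cases hk : u k = v k
    · rw [if_pos hk, hk]; ring
    · rw [if_neg hk, sub_zero]
      have h2 : u k - v k ≠ 0 := sub_ne_zero.2 hk
      revert h2
      generalize u k - v k = z
      revert z
      decide
  simp only [h1, Finset.sum_sub_distrib, Finset.sum_boole]
  simp

/-- polarisation. -/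
theorem qf_closed (u v w x : Fin 11 → ZMod 3) (h1 : qf (u - v) = 0) (h2 : qf (w - x) = 0) (h3 : qf (u - w) = 0)
    (h4 : qf (u - x) = 0) (h5 : qf (v - w) = 0) (h6 : qf (v - x) = 0) : qf ((u - v + w) - x) = 0 := by
  have key : qf ((u - v + w) - x) = qf (u - v) + qf (w - x) + (qf (u - x) + qf (v - w) - qf (u - w) - qf (v - x)) := by
    unfold qf
    simp only [← Finset.sum_add_distrib, ← Finset.sum_sub_distrib]
    refine Finset.sum_congr rfl fun k _ => ?_
    simp only [Pi.sub_apply, Pi.add_apply]
    ring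
  rw [key, h1, h2, h3, h4, h5, h6]
  ring

namespace IsWord

variable {N : I → I → ℤ} {a b c : I} {y : Fin 11 × ZMod 3 → I} {w : I → Fin 11 → ZMod 3}
  (h : IsWord N a b c y w)
include h

theorem qf_word {m m' : I} (hm : m ∉ F N a b c) (hm' : m' ∉ F N a b c) : qf (w m - w m') = 0 := by
  rw [qf_sub]
  by_cases hne : m = m'
  · subst hne
    have : agree (w m) (w m) = 11 := by simp [agree]
    rw [this]
    decide
  · rcases h.agree_cases hm hm' hne with h2 | h2 <;> rw [h2] <;> decide

/-- the set of words is closed under `u - v + w`. -/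
theorem closed {m₁ m₂ m₃ : I} (h1 : m₁ ∉ F N a b c) (h2 : m₂ ∉ F N a b c) (h3 : m₃ ∉ F N a b c) :
    ∃ m ∉ F N a b c, w m = w m₁ - w m₂ + w m₃ := by
  set e := w m₁ - w m₂ + w m₃ with he
  set S : I → ℤ := fun x => 4 * s N a b c x - ∑ q, N (y (q, e q)) x with hS
  have hSV : S ∈ V N := h.mem_word e
  have hSF : ∀ k t, S (y (k, t)) = if t = e k then -3 else 3 := by
    intro k t
    simp only [hS]
    rw [mem_F.1 (h.y_mem (k, t)), h.sum_word_F]
    split_ifs <;> norm_num
  have hSn : ∀ m, m ∉ F N a b c → S m = 2 * (agree e (w m) : ℤ) - 7 := by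
    intro m hm
    simp only [hS]
    rw [h.s_eq_one hm, h.sum_word_nF e hm]
    ring
  have hmod : ∀ m, m ∉ F N a b c → (agree e (w m)) % 3 = 2 := by
    intro m hm
    have h4 : qf (e - w m) = 0 :=
      qf_closed _ _ _ _ (h.qf_word h1 h2) (h.qf_word h3 hm) (h.qf_word h1 h3) (h.qf_word h1 hm)
        (h.qf_word h2 h3) (h.qf_word h2 hm)
    rw [qf_sub] at h4
    have h5 : ((agree e (w m) : ℕ) : ZMod 3) = ((2 : ℕ) : ZMod 3) := by
      have : ((agree e (w m) : ℕ) : ZMod 3) = 11 := by
        rw [sub_eq_zero] at h4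
        exact h4.symm
      rw [this]
      decide
    rw [ZMod.natCast_eq_natCast_iff] at h5
    exact h5
  -- the vector `z = S / 3`
  have h3S : ∀ x, ∃ z : ℤ, S x = 3 * z ∧ Odd z := by
    intro x
    by_cases hx : x ∈ F N a b c
    · obtain ⟨⟨k, t⟩, rfl⟩ := (h.mem_range x).2 hx
      rw [hSF]
      split_ifs
      · exact ⟨-1, by norm_num, by decide⟩
      · exact ⟨1, by norm_num, by decide⟩
    · rw [hSn x hx]
      have h4 := hmod x hx
      set g := agree e (w x)
      refine ⟨2 * ((g / 3 : ℕ) : ℤ) - 1, ?_, ?_⟩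
      · have : (g : ℤ) = 3 * ((g / 3 : ℕ) : ℤ) + 2 := by omega
        rw [this]
        ring
      · exact ⟨((g / 3 : ℕ) : ℤ) - 1, by ring⟩
  choose z hz hzodd using h3S
  have hzV : z ∈ V N := by
    intro i
    have h4 := hSV i
    have h5 : ∑ m, N i m * S m = 3 * ∑ m, N i m * z m := by
      rw [Finset.mul_sum]
      refine Finset.sum_congr rfl fun m _ => ?_
      rw [hz m]
      ring
    rw [h5, hz i] at h4
    linarith
  have hzF : ∀ k t, z (y (k, t)) = if t = e k then -1 else 1 := by
    intro k t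
    have h4 := hSF k t
    rw [hz] at h4
    split_ifs at h4 ⊢ <;> linarith
  -- inner product with `s`
  have hzs : ∑ x, s N a b c x * z x = 60 := by
    have h4 : ∀ x, s N a b c x * z x = N (y (0, 0)) x * z x + N (y (0, 1)) x * z x + N (y (0, 2)) x * z x := by
      intro x
      rw [← h.sum_row 0 x]
      ring
    simp only [h4, Finset.sum_add_distrib]
    rw [hzV, hzV, hzV, hzF, hzF, hzF]
    have : ∀ u : ZMod 3, 60 * (if (0 : ZMod 3) = u then (-1 : ℤ) else 1) + 60 * (if (1 : ZMod 3) = u then (-1 : ℤ) else 1)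
        + 60 * (if (2 : ZMod 3) = u then (-1 : ℤ) else 1) = 60 := by decide
    exact this _
  have hzn : ∑ x, z x ^ 2 = 300 := by
    have h4 : ∀ x, 3 * z x ^ 2 = 4 * (s N a b c x * z x) - ∑ q, N (y (q, e q)) x * z x := by
      intro x
      have h5 := hz x
      simp only [hS] at h5
      rw [← Finset.sum_mul]
      have h6 : ∑ q, N (y (q, e q)) x = 4 * s N a b c x - 3 * z x := by linarith
      rw [h6]
      ring
    have h5 : 3 * ∑ x, z x ^ 2 = 900 := by
      rw [Finset.mul_sum]
      simp only [h4, Finset.sum_sub_distrib, ← Finset.mul_sum]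
      rw [Finset.sum_comm, hzs]
      have h6 : ∀ q, ∑ x, N (y (q, e q)) x * z x = -60 := by
        intro q
        rw [hzV, hzF, if_pos rfl]
        norm_num
      simp only [h6]
      simp
    linarith
  obtain ⟨m, hm⟩ := h.complete hzV hzodd hzn
  have hmF : m ∉ F N a b c := by
    intro h4
    obtain ⟨⟨k, t⟩, hkt⟩ := (h.mem_range m).2 h4
    have h5 := hzF k t
    rw [hkt] at h5
    rcases hm with h6 | h6
    · rw [h6, h.diag] at h5
      split_ifs at h5
      all_goals norm_num at h5
    · rw [h6, h.diag] at h5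
      split_ifs at h5
      all_goals norm_num at h5
  have hm' : ∀ x, z x = N m x := by
    rcases hm with h6 | h6
    · exact h6
    · exfalso
      have h7 : ∑ x, s N a b c x * z x = -60 := by
        have h8 : ∀ x, s N a b c x * z x = -(N m x * s N a b c x) := by
          intro x
          rw [h6]
          ring
        simp only [h8, Finset.sum_neg_distrib]
        rw [h.sum_s, h.s_eq_one hmF]
        norm_num
      rw [hzs] at h7
      norm_num at h7
  refine ⟨m, hmF, ?_⟩
  funext k
  have h4 := h.word m hmF k (e k)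
  rw [h.symm, ← hm', hzF, if_pos rfl] at h4
  by_contra h5
  rw [if_neg (Ne.symm h5)] at h4
  norm_num at h4

end IsWord

end Cfsg.Agent.McLGraph.Word
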